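import Mathlib
import Cfsg.Agent.TID.Defs

/-!
# S4622, defect group of order nine: the interface of the shared part (helper27)

`Y` is the simple group (`O'N` or `Suz`), `D` the image of the defect group in `Y`.

* `Loc9 D K`: the local structure, `C(x) = D × K`, `K ≅ A₆`, `N(D) / C(D)` nonabelian and transitive on `D#`;
* `Chr9 M D`: two nonprincipal characters with the values `± 9` and `± 18` on `D#`;
* `Nine`: the statement of the shared theorem (proved in `N9/Main.lean`).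
-/

set_option autoImplicit false

namespace Cfsg.Agent.TID.N9

open Cfsg
open Cfsg.Agent.TID.Blk (Concl)

universe u v

/-- the local structure -/
structure Loc9 {Y : Type v} [Group Y] (D K : Subgroup Y) : Prop where
  card : Nat.card D = 9
  iso : Nonempty (K ≃* alternatingGroup (Fin 6))
  cent : ∀ x ∈ D, x ≠ 1 → Subgroup.centralizer ({x} : Set Y) = D ⊔ K
  trans : ∀ x ∈ D, x ≠ 1 → ∀ y ∈ D, y ≠ 1 → ∃ n ∈ Subgroup.normalizer (D : Set Y), n * x * n⁻¹ = y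
  nonab : ∃ a ∈ Subgroup.normalizer (D : Set Y), ∃ b ∈ Subgroup.normalizer (D : Set Y), a * b * a⁻¹ * b⁻¹ ∉ D ⊔ K

/-- the two characters -/
def Chr9 (M : Ideal AlgInt) {Y : Type v} [Group Y] (D : Subgroup Y) : Prop :=
  ∃ (ξ₁ ξ₂ : IrrCharacter Y) (x : Y) (d₁ d₂ : ℤ) (f₁ f₂ : ℕ), x ∈ D ∧ x ≠ 1 ∧
    ξ₁ ∉ principalBlock M Y ∧ ξ₂ ∉ principalBlock M Y ∧ d₁ ^ 2 = 1 ∧ d₂ ^ 2 = 4 ∧
    (ξ₁ : Y → ℂ) x = 9 * d₁ ∧ (ξ₂ : Y → ℂ) x = 9 * d₂ ∧ (ξ₁ : Y → ℂ) 1 = f₁ ∧ (ξ₂ : Y → ℂ) 1 = f₂ ∧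
    ∀ f : ℕ, f ∣ 2 * Nat.card Y → (d₁ * f₁ + d₂ * f₂) ^ 2 ≠ 4 * (f : ℤ) ^ 2

/-- the image of `D` in `Y` -/
def imY {G : Type u} [Group G] {S : Subgroup (G ⧸ pPrimeCore 3 G)} {Y : Type v} [Group Y] (e : S ≃* Y)
    (D : Subgroup G) : Subgroup Y :=
  ((img 3 D).subgroupOf S).map e.toMonoidHom

/-- **the shared theorem** -/
def Nine : Prop :=
  ∀ (G : Type u) [Group G] [Finite G] (S : Subgroup (G ⧸ pPrimeCore 3 G)) (M : Ideal AlgInt)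
    (B : Set (IrrCharacter G)) (D : Subgroup G) (Y : Type v) [Group Y] (e : S ≃* Y) (K : Subgroup Y),
    Cen 3 S → Hyp 3 M B D → S.index ∣ 2 → img 3 D ≤ S →
    (∀ g : G ⧸ pPrimeCore 3 G, ∃ s ∈ S, s * g ∈ Subgroup.normalizer (img 3 D : Set (G ⧸ pPrimeCore 3 G))) →
    Loc9 (imY e D) K → Chr9 M (imY e D) →
    (∀ χ ∈ B, ∀ z ∈ pPrimeCore 3 G, z ∈ commutator G → (χ : G → ℂ) z = (χ : G → ℂ) 1) →
    Concl 3 M B D

end Cfsg.Agent.TID.N9
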