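import Mathlib

/-!
# S4622, defect group of order nine: the combinatorial lemmas (helper27)

`n` is nine times the contribution matrix, `D` the vector of the generalized decomposition numbers of the subgroup of
index at most two.
-/

set_option autoImplicit false
set_option linter.unusedSectionVars false

namespace Cfsg.Agent.TID.N9

open Finset

theorem sum_eq_of_sq {I : Type*} [Fintype I] [DecidableEq I] (D g : I → ℤ) (s : Finset I)
    (h : ∑ a, D a ^ 2 ≤ ∑ a ∈ s, D a ^ 2) : ∑ a, D a * g a = ∑ a ∈ s, D a * g a := by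
  have h1 := Finset.sum_add_sum_compl s fun a => D a ^ 2
  have h2 : ∑ a ∈ sᶜ, D a ^ 2 = 0 :=
    le_antisymm (by omega) (Finset.sum_nonneg fun a _ => sq_nonneg _)
  rw [Finset.sum_eq_zero_iff_of_nonneg fun a _ => sq_nonneg _] at h2
  rw [← Finset.sum_add_sum_compl s, Finset.sum_eq_zero (s := sᶜ), add_zero]
  intro a ha
  rw [pow_eq_zero_iff (by norm_num) |>.1 (h2 a ha), zero_mul]

theorem sum_sq_le {I : Type*} [Fintype I] (D : I → ℤ) (s : Finset I) : ∑ a ∈ s, D a ^ 2 ≤ ∑ a, D a ^ 2 :=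
  Finset.sum_le_sum_of_subset_of_nonneg (Finset.subset_univ s) fun _ _ _ => sq_nonneg _

theorem sq_cases {x : ℤ} (h : x ^ 2 ≤ 8) : x ^ 2 = 0 ∨ x ^ 2 = 1 ∨ x ^ 2 = 4 := by
  have h1 : x ≤ 2 := by nlinarith
  have h2 : -2 ≤ x := by nlinarith
  interval_cases x <;> simp

/-- **Rank one.** -/
theorem comb_one {I : Type*} [Fintype I] (D deg : I → ℤ) (h0 : ∀ a, D a ≠ 0) (h9 : ∑ a, D a ^ 2 = 9)
    (hd : ∑ a, D a * deg a = 0) (a t : I) (ha : D a ^ 2 = 1) (ht : D t ^ 2 = 4)
    (h4 : ∀ u, (D a * deg a + D t * deg t) ^ 2 ≠ 4 * deg u ^ 2) : Fintype.card I = 6 := by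
  classical
  have hat : a ≠ t := by
    rintro rfl
    omega
  have key : ∀ u, u ≠ t → D u ^ 2 = 1 := by
    intro u hut
    by_cases hua : u = a
    · rw [hua, ha]
    have e1 : ∀ g : I → ℤ, ∑ x ∈ ({u, a, t} : Finset I), g x = g u + (g a + g t) := by
      intro g
      rw [Finset.sum_insert (by simp [hua, hut]), Finset.sum_pair hat]
    have e2 := sum_sq_le D {u, a, t}
    rw [e1, h9, ha, ht] at e2
    rcases sq_cases (x := D u) (by omega) with h | h | h
    · exact absurd (pow_eq_zero_iff (by norm_num) |>.1 h) (h0 u)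
    · exact h
    · exfalso
      have e3 := sum_eq_of_sq D deg {u, a, t} (by rw [e1, h9, ha, ht, h]; norm_num)
      rw [hd, e1] at e3
      apply h4 u
      have e4 : D a * deg a + D t * deg t = -(D u * deg u) := by omega
      rw [e4, neg_sq, mul_pow, h]
  rw [← Finset.add_sum_erase _ _ (Finset.mem_univ t), ht,
    Finset.sum_congr rfl fun u hu => key u (Finset.ne_of_mem_erase hu), Finset.sum_const,
    Finset.card_erase_of_mem (Finset.mem_univ t), Finset.card_univ, nsmul_eq_mul, mul_one] at h9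
  omega

theorem five_le {u v : ℤ} (hu : ¬ 3 ∣ u) (hv : ¬ 3 ∣ v) (h : (u + v) ^ 2 = 1) : 5 ≤ u ^ 2 + v ^ 2 := by
  by_contra hlt
  have h1 : u ≤ 2 := by nlinarith
  have h2 : -2 ≤ u := by nlinarith
  have h3 : v ≤ 2 := by nlinarith
  have h4 : -2 ≤ v := by nlinarith
  interval_cases u <;> interval_cases v <;> omega

theorem one_le_sq {u : ℤ} (hu : ¬ 3 ∣ u) : 1 ≤ u ^ 2 := by
  have : u ≠ 0 := by
    rintro rfl
    exact hu (dvd_zero 3)
  have := sq_pos_of_ne_zero this
  omega

theorem ne_eleven (u v : ℤ) : u ^ 2 + v ^ 2 ≠ 11 := by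
  intro h
  have h1 : u ≤ 3 := by nlinarith
  have h2 : -3 ≤ u := by nlinarith
  have h3 : v ≤ 3 := by nlinarith
  have h4 : -3 ≤ v := by nlinarith
  interval_cases u <;> interval_cases v <;> omega

section two

variable {I : Type*} [Fintype I] [DecidableEq I]

/-- the data of the index two case -/
structure Two (σ : I → I) (n : I → I → ℤ) (D deg : I → ℤ) : Prop where
  inv : ∀ a, σ (σ a) = a
  symm : ∀ a b, n a b = n b a
  three : ∀ a b, ¬ 3 ∣ n a b
  idem : ∀ a c, ∑ b, n a b * n c b = 9 * n a c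
  pair : ∀ a b, n a b + n a (σ b) = D a * D b
  dinv : ∀ a, D (σ a) = D a
  ginv : ∀ a, deg (σ a) = deg a
  zero : ∀ a, ∑ b, n a b * deg b = 0

variable {σ : I → I} {n : I → I → ℤ} {D deg : I → ℤ}

theorem Two.sum_σ (h : Two σ n D deg) (g : I → ℤ) : ∑ b, g (σ b) = ∑ b, g b :=
  Fintype.sum_equiv (Function.Involutive.toPerm σ h.inv) _ _ fun _ => rfl

theorem Two.swap (h : Two σ n D deg) (a b : I) : n a (σ b) = n (σ a) b := by
  have h1 := h.pair a b
  have h2 := h.pair b a
  rw [h.symm (σ a) b]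
  rw [h.symm b a] at h2
  linarith

theorem Two.eighteen (h : Two σ n D deg) {a : I} (ha : D a ≠ 0) : ∑ b, D b ^ 2 = 18 := by
  have h1 : ∑ b, (n a b + n a (σ b)) ^ 2 = D a ^ 2 * ∑ b, D b ^ 2 := by
    rw [Finset.mul_sum]
    exact Finset.sum_congr rfl fun b _ => by rw [h.pair, mul_pow]
  have h2 : ∑ b, (n a b + n a (σ b)) ^ 2 =
      ∑ b, n a b * n a b + 2 * ∑ b, n a b * n (σ a) b + ∑ b, n a (σ b) * n a (σ b) := by
    rw [Finset.mul_sum, ← Finset.sum_add_distrib, ← Finset.sum_add_distrib]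
    exact Finset.sum_congr rfl fun b _ => by rw [← h.swap]; ring
  rw [h.sum_σ fun b => n a b * n a b, h.idem, h.idem] at h2
  have h3 := h.pair a a
  refine mul_left_cancel₀ (pow_ne_zero 2 ha) ?_
  rw [← h1, h2]
  linear_combination 18 * h3

theorem Two.degsum (h : Two σ n D deg) {a : I} (ha : D a ≠ 0) : ∑ b, D b * deg b = 0 := by
  have h1 : ∑ b, (n a b + n a (σ b)) * deg b = D a * ∑ b, D b * deg b := by
    rw [Finset.mul_sum]
    exact Finset.sum_congr rfl fun b _ => by rw [h.pair, mul_assoc]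
  have h2 : ∑ b, (n a b + n a (σ b)) * deg b = ∑ b, n a b * deg b + ∑ b, n a (σ b) * deg (σ b) := by
    rw [← Finset.sum_add_distrib]
    exact Finset.sum_congr rfl fun b _ => by rw [h.ginv]; ring
  rw [h.sum_σ fun b => n a b * deg b, h.zero, h1, add_zero] at h2
  exact (mul_eq_zero.1 h2).resolve_left ha

theorem Two.fixed (h : Two σ n D deg) {f : I} (hf : σ f = f) (a : I) : 2 * n a f = D a * D f := by
  have := h.pair a f
  rw [hf] at this
  linarith

theorem Two.ne_σ (h : Two σ n D deg) {a b : I} (hab : a ≠ b) : σ a ≠ σ b := fun e => hab (by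
  rw [← h.inv a, e, h.inv])

theorem Two.σ_ne (h : Two σ n D deg) {a b : I} (hab : a ≠ σ b) : σ a ≠ b := fun e => hab (by
  rw [← e, h.inv])

/-- There is exactly one pair with `D = ± 2`. -/
theorem Two.exists_pair (h : Two σ n D deg) {d₁ d₂ f₁ f₂ : ℤ} (hd₁ : d₁ ^ 2 = 1) (hd₂ : d₂ ^ 2 = 4)
    (h1 : ∃ a, (σ a ≠ a ∧ D a = d₁ ∧ deg a = f₁) ∨ (σ a = a ∧ D a = 2 * d₁ ∧ deg a = 2 * f₁))
    (h2 : ∃ a, (σ a ≠ a ∧ D a = d₂ ∧ deg a = f₂) ∨ (σ a = a ∧ D a = 2 * d₂ ∧ deg a = 2 * f₂))
    (h4 : ∀ f, (f = f₂ ∨ ∃ a, deg a = f) → (d₁ * f₁ + d₂ * f₂) ^ 2 ≠ 4 * f ^ 2) :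
    ∃ t, σ t ≠ t ∧ D t ^ 2 = 4 ∧ ∀ u, σ u ≠ u → D u ^ 2 = 4 → u = t ∨ u = σ t := by
  obtain ⟨a, ha⟩ := h1
  obtain ⟨t, ht⟩ := h2
  have ha0 : D a ≠ 0 := by
    rcases ha with ⟨-, e, -⟩ | ⟨-, e, -⟩ <;> rw [e] <;> intro e' <;> nlinarith
  have h18 := h.eighteen ha0
  have hd := h.degsum ha0
  rcases ht with ⟨t1, t2, t3⟩ | ⟨t1, t2, t3⟩
  · refine ⟨t, t1, by rw [t2, hd₂], fun u u1 u2 => ?_⟩
    by_contra hu
    push Not at hu
    have t4 : D t ^ 2 = 4 := by rw [t2, hd₂]
    have e0 : ∀ g : I → ℤ, ∑ x ∈ ({u, σ u, t, σ t} : Finset I), g x = g u + (g (σ u) + (g t + g (σ t))) := by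
      intro g
      rw [Finset.sum_insert (by simp [u1.symm, hu.1, hu.2]),
        Finset.sum_insert (by simp [h.σ_ne hu.2, h.ne_σ hu.1]), Finset.sum_pair t1.symm]
    rcases ha with ⟨a1, a2, a3⟩ | ⟨a1, a2, a3⟩
    · have a4 : D a ^ 2 = 1 := by rw [a2, hd₁]
      have hne : ∀ x, D x ^ 2 = 1 → x ∉ ({u, σ u, t, σ t} : Finset I) := by
        intro x hx
        simp only [Finset.mem_insert, Finset.mem_singleton]
        rintro (rfl | rfl | rfl | rfl)
        · omega
        · rw [h.dinv] at hx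
          omega
        · omega
        · rw [h.dinv] at hx
          omega
      have e1 : ∀ g : I → ℤ, ∑ x ∈ insert a (insert (σ a) ({u, σ u, t, σ t} : Finset I)), g x =
          g a + (g (σ a) + (g u + (g (σ u) + (g t + g (σ t))))) := by
        intro g
        rw [Finset.sum_insert, Finset.sum_insert (hne _ (by rw [h.dinv, a4])), e0]
        rw [Finset.mem_insert, not_or]
        exact ⟨a1.symm, hne a a4⟩
      have e3 := sum_eq_of_sq D deg (insert a (insert (σ a) ({u, σ u, t, σ t} : Finset I)))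
        (by rw [e1, h18, h.dinv, h.dinv, h.dinv, a4, u2, t4]; norm_num)
      rw [hd, e1, h.dinv, h.dinv, h.dinv, h.ginv, h.ginv, h.ginv, a2, a3, t2, t3] at e3
      apply h4 (deg u) (Or.inr ⟨u, rfl⟩)
      have e4 : d₁ * f₁ + d₂ * f₂ = -(D u * deg u) := by omega
      rw [e4, neg_sq, mul_pow, u2]
    · have hne : a ∉ ({u, σ u, t, σ t} : Finset I) := by
        simp only [Finset.mem_insert, Finset.mem_singleton]
        rintro (rfl | e | rfl | e)
        · exact u1 a1
        · exact u1 (by rw [← e, ← a1, e, h.inv])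
        · exact t1 a1
        · exact t1 (by rw [← e, ← a1, e, h.inv])
      have e2 := sum_sq_le D (insert a ({u, σ u, t, σ t} : Finset I))
      rw [Finset.sum_insert hne, e0, h18, h.dinv, h.dinv, u2, t4, a2, mul_pow, hd₁] at e2
      omega
  · exfalso
    have t4 : D t ^ 2 = 16 := by rw [t2, mul_pow, hd₂]; norm_num
    rcases ha with ⟨a1, a2, a3⟩ | ⟨a1, a2, a3⟩
    · have a4 : D a ^ 2 = 1 := by rw [a2, hd₁]
      have e1 : ∀ g : I → ℤ, ∑ x ∈ ({t, a, σ a} : Finset I), g x = g t + (g a + g (σ a)) := by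
        intro g
        rw [Finset.sum_insert, Finset.sum_pair a1.symm]
        simp only [Finset.mem_insert, Finset.mem_singleton]
        rintro (rfl | e)
        · exact a1 t1
        · exact a1 (by rw [← e, ← t1, e, h.inv])
      have e3 := sum_eq_of_sq D deg {t, a, σ a} (by rw [e1, h18, h.dinv, a4, t4]; norm_num)
      rw [hd, e1, h.dinv, h.ginv, a2, a3, t2, t3] at e3
      apply h4 f₂ (Or.inl rfl)
      have e4 : d₁ * f₁ + d₂ * f₂ = -(d₂ * f₂) := by linarith
      rw [e4, neg_sq, mul_pow, hd₂]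
    · have a4 : D a ^ 2 = 4 := by rw [a2, mul_pow, hd₁]; norm_num
      have e2 := sum_sq_le D {t, a}
      rw [Finset.sum_pair (by rintro rfl; omega), h18, a4, t4] at e2
      omega

/-- **Index two.** -/
theorem Two.main (h : Two σ n D deg) {t : I} (t1 : σ t ≠ t) (t4 : D t ^ 2 = 4)
    (tu : ∀ u, σ u ≠ u → D u ^ 2 = 4 → u = t ∨ u = σ t) :
    (Fintype.card I = 6 ∧ ∃ a, σ a ≠ a ∧ n a a - n a (σ a) = 9) ∨ (Fintype.card I = 9 ∧ ∀ a, n a a = 2) := by
  have ht0 : D t ≠ 0 := by
    intro e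
    rw [e] at t4
    omega
  have h18 := h.eighteen ht0
  have hF : ∀ f, σ f = f → D f ^ 2 = 4 := by
    intro f hf
    have e1 := h.fixed hf f
    have e2 := sum_sq_le D {f, t, σ t}
    rw [Finset.sum_insert, Finset.sum_pair t1.symm, h18, h.dinv, t4] at e2
    · have e3 := h.three f f
      have e4 : D f ≤ 3 := by nlinarith
      have e5 : -3 ≤ D f := by nlinarith
      generalize D f = x at *
      interval_cases x <;> omega
    · simp only [Finset.mem_insert, Finset.mem_singleton]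
      rintro (rfl | e)
      · exact t1 hf
      · exact t1 (by rw [← e, ← hf, e, h.inv])
  have hO : ∀ u, σ u ≠ u → u ≠ t → u ≠ σ t → D u ^ 2 = 0 ∨ D u ^ 2 = 1 := by
    intro u u1 u2 u3
    have e2 := sum_sq_le D {u, σ u, t, σ t}
    rw [Finset.sum_insert (by simp [u1.symm, u2, u3]),
      Finset.sum_insert (by simp [h.σ_ne u3, h.ne_σ u2]), Finset.sum_pair t1.symm, h18, h.dinv, h.dinv, t4] at e2
    rcases sq_cases (x := D u) (by omega) with e | e | e
    · exact Or.inl e
    · exact Or.inr e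
    · rcases tu u u1 e with e' | e'
      · exact absurd e' u2
      · exact absurd e' u3
  set O : Finset I := univ.filter fun b => D b ^ 2 = 1 with hOdef
  set F : Finset I := univ.filter fun b => σ b = b with hFdef
  have mO : ∀ b, b ∈ O ↔ D b ^ 2 = 1 := fun b => by simp [hOdef]
  have mF : ∀ b, b ∈ F ↔ σ b = b := fun b => by simp [hFdef]
  have split : ∀ g : I → ℤ, (∀ b, D b ^ 2 = 0 → g b = 0) →
      ∑ b, g b = ∑ b ∈ O, g b + ∑ b ∈ F, g b + (g t + g (σ t)) := by
    intro g hg
    have d1 : Disjoint O F := by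
      rw [Finset.disjoint_left]
      intro b b1 b2
      have := hF b ((mF b).1 b2)
      have := (mO b).1 b1
      omega
    have d2 : Disjoint (O ∪ F) {t, σ t} := by
      rw [Finset.disjoint_right]
      intro b b1 b2
      simp only [Finset.mem_insert, Finset.mem_singleton] at b1
      rw [Finset.mem_union, mO, mF] at b2
      rcases b1 with rfl | rfl
      · rcases b2 with e | e
        · omega
        · exact t1 e
      · rcases b2 with e | e
        · rw [h.dinv] at e
          omega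
        · rw [h.inv] at e
          exact t1 e.symm
    rw [← Finset.sum_union d1, ← Finset.sum_pair t1.symm, ← Finset.sum_union d2]
    refine (Finset.sum_subset (Finset.subset_univ _) fun b _ hb => hg b ?_).symm
    simp only [Finset.mem_union, Finset.mem_insert, Finset.mem_singleton, mO, mF, not_or] at hb
    exact (hO b hb.1.2 hb.2.1 hb.2.2).resolve_right hb.1.1
  have hcount : (O.card : ℤ) + 4 * F.card = 10 := by
    have e1 := split (fun b => D b ^ 2) fun _ e => e
    rw [h18, Finset.sum_congr rfl fun b hb => (mO b).1 hb,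
      Finset.sum_congr rfl fun b hb => hF b ((mF b).1 hb), h.dinv, t4] at e1
    simp only [Finset.sum_const, nsmul_eq_mul] at e1
    omega
  have hOσ : ∀ a ∈ O, σ a ≠ a := by
    intro a ha e
    have := hF a e
    have := (mO a).1 ha
    omega
  let q : I → I → ℤ := fun a b => n a b ^ 2 + n a (σ b) ^ 2
  have hq : ∀ a, ∑ b, q a b = 18 * n a a := by
    intro a
    have e1 := h.idem a a
    rw [Finset.sum_add_distrib, h.sum_σ fun b => n a b ^ 2]
    simp only [sq]
    omega
  have hq0 : ∀ a b, 2 ≤ q a b := fun a b => by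
    have := one_le_sq (h.three a b)
    have := one_le_sq (h.three a (σ b))
    change 2 ≤ n a b ^ 2 + n a (σ b) ^ 2
    omega
  have hqσ : ∀ a b, q a (σ b) = q a b := fun a b => by
    change n a (σ b) ^ 2 + n a (σ (σ b)) ^ 2 = n a b ^ 2 + n a (σ b) ^ 2
    rw [h.inv, add_comm]
  have hν : ∀ a ∈ O, (n a a = 2 ∧ q a a = 5) ∨ (n a a = 5 ∧ q a a = 41 ∧ n a (σ a) = -4) := by
    intro a ha
    have e1 := h.pair a a
    rw [← sq, (mO a).1 ha] at e1
    have e2 := sum_sq_le (n a) {a, σ a}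
    rw [Finset.sum_pair (hOσ a ha).symm] at e2
    have e3 := h.idem a a
    simp only [← sq] at e3
    rw [e3] at e2
    have e4 := h.three a a
    have e5 := h.three a (σ a)
    have e6 : n a (σ a) = 1 - n a a := by omega
    change (n a a = 2 ∧ n a a ^ 2 + n a (σ a) ^ 2 = 5) ∨ (n a a = 5 ∧ n a a ^ 2 + n a (σ a) ^ 2 = 41 ∧ n a (σ a) = -4)
    rw [e6] at e2 e5 ⊢
    have e7 : n a a ≤ 5 := by nlinarith
    have e8 : 1 ≤ n a a := by nlinarith
    generalize n a a = x at *
    interval_cases x <;> omega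
  have hlow : ∀ a ∈ O, 5 * (O.card : ℤ) + 2 * (q a a - 5) ≤ ∑ b ∈ O, q a b := by
    intro a ha
    have e1 : ∑ b ∈ ({a, σ a} : Finset I), (q a b - 5) ≤ ∑ b ∈ O, (q a b - 5) := by
      refine Finset.sum_le_sum_of_subset_of_nonneg ?_ fun b hb _ => ?_
      · intro b hb
        simp only [Finset.mem_insert, Finset.mem_singleton] at hb
        rcases hb with rfl | rfl
        · exact ha
        · rw [mO, h.dinv]
          exact (mO a).1 ha
      · have := five_le (h.three a b) (h.three a (σ b)) (by rw [h.pair, mul_pow, (mO a).1 ha, (mO b).1 hb]; norm_num)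
        change 0 ≤ n a b ^ 2 + n a (σ b) ^ 2 - 5
        omega
    rw [Finset.sum_pair (hOσ a ha).symm, hqσ, Finset.sum_sub_distrib, Finset.sum_const, nsmul_eq_mul] at e1
    omega
  obtain ⟨a, ha⟩ : O.Nonempty := Finset.card_pos.1 (by omega)
  obtain ⟨f, hf⟩ : F.Nonempty := by
    rw [← Finset.card_pos]
    by_contra e
    have e1 := hlow a ha
    have e2 : ∑ b ∈ O, q a b ≤ ∑ b, q a b :=
      Finset.sum_le_sum_of_subset_of_nonneg (Finset.subset_univ _) fun b _ _ => by
        have := hq0 a b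
        omega
    rw [hq] at e2
    rcases hν a ha with ⟨e3, e4⟩ | ⟨e3, e4, -⟩ <;> omega
  have hnz : ∀ b, D b ^ 2 ≠ 0 := by
    intro b e
    have e1 := h.fixed ((mF f).1 hf) b
    rw [pow_eq_zero_iff (by norm_num) |>.1 e, zero_mul] at e1
    exact h.three b f (by omega)
  have split' : ∀ g : I → ℤ, ∑ b, g b = ∑ b ∈ O, g b + ∑ b ∈ F, g b + (g t + g (σ t)) :=
    fun g => split g fun b e => absurd e (hnz b)
  have hcard : (Fintype.card I : ℤ) = O.card + F.card + 2 := by
    have e1 := split' fun _ => 1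
    simp only [Finset.sum_const, nsmul_eq_mul, mul_one, Finset.card_univ] at e1
    omega
  have hqF : ∀ a ∈ O, ∑ b ∈ F, q a b = 2 * F.card := by
    intro a ha
    rw [Finset.sum_congr rfl (g := fun _ => 2), Finset.sum_const, nsmul_eq_mul, mul_comm]
    intro b hb
    have e1 := h.fixed ((mF b).1 hb) a
    have e2 : (2 * n a b) ^ 2 = 4 := by rw [e1, mul_pow, (mO a).1 ha, hF b ((mF b).1 hb)]; norm_num
    change n a b ^ 2 + n a (σ b) ^ 2 = 2
    rw [(mF b).1 hb]
    linarith
  have hFpos : 0 < F.card := Finset.card_pos.2 ⟨f, hf⟩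
  by_cases hc : F.card = 2
  · left
    refine ⟨by omega, a, hOσ a ha, ?_⟩
    have e0 : ({a, σ a} : Finset I) = O := by
      apply Finset.eq_of_subset_of_card_le
      · intro b hb
        simp only [Finset.mem_insert, Finset.mem_singleton] at hb
        rcases hb with rfl | rfl
        · exact ha
        · rw [mO, h.dinv]
          exact (mO a).1 ha
      · rw [Finset.card_pair (hOσ a ha).symm]
        omega
    have e1 := split' (q a)
    rw [hq, hqF a ha, hqσ, ← e0, Finset.sum_pair (hOσ a ha).symm, hqσ] at e1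
    rcases hν a ha with ⟨e3, e4⟩ | ⟨e3, -, e5⟩
    · exact absurd (show q a t = 11 by omega) (ne_eleven _ _)
    · omega
  · right
    have c1 : F.card = 1 := by omega
    have c2 : O.card = 6 := by omega
    have key : ∀ a ∈ O, n a a = 2 ∧ n t a ^ 2 = 1 := by
      intro a ha
      have e1 := split' (q a)
      have e2 := hlow a ha
      have e3 := hq0 a t
      rw [hq, hqF a ha, hqσ] at e1
      rcases hν a ha with ⟨e4, e5⟩ | ⟨e4, e5, -⟩
      · refine ⟨e4, ?_⟩
        have e6 : n a t ^ 2 + n a (σ t) ^ 2 = 2 := show q a t = 2 by omega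
        have := one_le_sq (h.three a t)
        have := one_le_sq (h.three a (σ t))
        rw [h.symm t a]
        omega
      · omega
    have ht : n t t = 2 := by
      have e1 := split' fun b => n t b ^ 2
      have e2 := h.idem t t
      simp only [← sq] at e2
      have e3 : ∑ b ∈ F, n t b ^ 2 = 4 := by
        rw [Finset.sum_congr rfl (g := fun _ => 4), Finset.sum_const, c1, one_smul]
        intro b hb
        have e4 := h.fixed ((mF b).1 hb) t
        have e5 : (2 * n t b) ^ 2 = 16 := by rw [e4, mul_pow, t4, hF b ((mF b).1 hb)]; norm_num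
        linarith
      have e4 := h.pair t t
      rw [← sq, t4] at e4
      have e5 : n t (σ t) = 4 - n t t := by omega
      rw [e2, e3, Finset.sum_congr rfl fun b hb => (key b hb).2, Finset.sum_const, c2, e5] at e1
      have e6 : (n t t - 2) * (2 * n t t - 13) = 0 := by
        simp only [nsmul_eq_mul] at e1
        push_cast at e1
        linear_combination -e1
      rcases mul_eq_zero.1 e6 with e | e <;> omega
    refine ⟨by omega, fun b => ?_⟩
    by_cases b1 : σ b = b
    · have e1 := h.fixed b1 b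
      rw [← sq, hF b b1] at e1
      omega
    by_cases b2 : b = t
    · rw [b2, ht]
    by_cases b3 : b = σ t
    · rw [b3, h.swap, h.inv, ht]
    exact (key b ((mO b).2 ((hO b b1 b2 b3).resolve_left (hnz b)))).1

/-- No vector of norm two in the image if the diagonal entries are `2`. -/
theorem Two.no_two (h : Two σ n D deg) (h2 : ∀ a, n a a = 2) (c : I → ℤ) (hc : ∑ a, c a ^ 2 = 2)
    (hv : ∀ a, ∑ b, c b * n a b = 9 * c a) : False := by
  obtain ⟨a, -, ha⟩ := Finset.exists_ne_zero_of_sum_ne_zero (by rw [hc]; norm_num : ∑ a, c a ^ 2 ≠ 0)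
  have e1 := Finset.sum_mul_sq_le_sq_mul_sq Finset.univ c (n a)
  have e2 := h.idem a a
  simp only [← sq] at e2
  rw [hv, hc, e2, h2] at e1
  have e3 : 0 < c a ^ 2 := lt_of_le_of_ne (sq_nonneg _) ha.symm
  nlinarith

end two

end Cfsg.Agent.TID.N9
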