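import Mathlib
import Cfsg.Agent.TID.BlkQEight
import Cfsg.Agent.HKS.CosetTwo
import Cfsg.Agent.TID.N9.Comb

/-!
# S4622, defect group of order nine: the count on the level of class functions (helper27)

`Base A`: the contribution matrix of `A` has entries `n / 9`, `3 ∤ n`.  `Wd A E W`: the singular parts of the members of `A`,
multiplied by `E`, are integral multiples of `W`.
-/

set_option autoImplicit false
set_option linter.unusedSectionVars false

namespace Cfsg.Agent.TID.N9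

open Cfsg Cfsg.Agent.H608.BlockRank Cfsg.Agent.Blocks.Basic Cfsg.Agent.Blocks.Local Cfsg.Agent.TID.Blk Cfsg.Agent.Characters.Core
open Cfsg.Agent.H608.TI (sg inner_zero)
open scoped ComplexConjugate

universe u

variable {X : Type u} [Group X] [Fintype X] {A : Set (IrrCharacter X)}

theorem inner_sg_left (θ φ : X → ℂ) : classInner (sg 3 θ) φ = classInner θ (sg 3 φ) := by
  have : Fact (Nat.Prime 3) := ⟨Nat.prime_three⟩
  rw [H608.TI.sg_apply, H608.TI.sg_apply, classInner_sub_left, classInner_sub_right, inner_pReg_left]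

theorem sg_of_zero {θ : X → ℂ} (h : pReg 3 θ = 0) : sg 3 θ = θ := by
  rw [H608.TI.sg_apply, h, sub_zero]

theorem sg_sg (θ : X → ℂ) : sg 3 (sg 3 θ) = sg 3 θ := sg_of_zero (H608.TI.pReg_sg θ)

theorem sg_mul (θ e : X → ℂ) : sg 3 (θ * e) = sg 3 θ * e := by
  funext g
  by_cases h : IsPRegular 3 g
  · rw [Pi.mul_apply, H608.TI.sg_of_reg h, H608.TI.sg_of_reg h, zero_mul]
  · rw [Pi.mul_apply, H608.TI.sg_of_not h, H608.TI.sg_of_not h, Pi.mul_apply]

theorem reg_one : IsPRegular 3 (1 : X) := by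
  unfold IsPRegular
  rw [orderOf_one]
  norm_num

/-- the contributions -/
structure Base (A : Set (IrrCharacter X)) : Prop where
  mem : ∀ χ ∈ A, sg 3 (χ : X → ℂ) ∈ charSpan A
  int : ∀ χ ∈ A, ∀ ψ ∈ A, ∃ n : ℤ, ¬ 3 ∣ n ∧ 9 * classInner (sg 3 (χ : X → ℂ)) (ψ : X → ℂ) = n

theorem base_of_block {M : Ideal AlgInt} (hM : IsPModular 3 M) (hA : IsPBlock M A) (hd : blockDefect 3 A = 2) :
    Base A := by
  have : Fact (Nat.Prime 3) := ⟨Nat.prime_three⟩
  have hMp := isPrime_of_isPModular hM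
  refine ⟨fun χ hχ => H608.TI.map_sg_le hM (isUnion_of_isPBlock hA) ⟨_, mem_span_of_mem hχ, rfl⟩,
    fun χ hχ ψ hψ => ?_⟩
  obtain ⟨n, hn, h⟩ := contr_of_zero hM hA hχ (height_small hM hA hd.le χ hχ) hψ
  rw [hd, height_small hM hA hd.le ψ hψ] at h
  rw [H608.TI.sg_apply, classInner_sub_left]
  by_cases e : χ = ψ
  · refine ⟨9 - n, fun h3 => hn (by omega), ?_⟩
    rw [e, classInner_irr_self ψ.2]
    rw [e] at h
    push_cast at h ⊢
    linear_combination -h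
  · refine ⟨-n, fun h3 => hn (by omega), ?_⟩
    rw [classInner_irr_ne χ.2 ψ.2 fun h4 => e (Subtype.ext h4)]
    push_cast at h ⊢
    linear_combination -h

/-- a virtual character of norm two vanishing on the regular elements -/
def HasTwo (A : Set (IrrCharacter X)) : Prop :=
  ∃ v ∈ charSpan A, pReg 3 v = 0 ∧ classInner v v = 2 ∧ ∀ χ ∈ A, ∃ c : ℤ, classInner v (χ : X → ℂ) = c

theorem Base.matrix (h : Base A) [Fintype A] : ∃ n : A → A → ℤ,
    (∀ a b : A, 9 * classInner (sg 3 ((a : IrrCharacter X) : X → ℂ)) ((b : IrrCharacter X) : X → ℂ) = n a b) ∧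
    (∀ a b, n a b = n b a) ∧ (∀ a b, ¬ 3 ∣ n a b) ∧ (∀ a c, ∑ b, n a b * n c b = 9 * n a c) ∧
    ∀ a, ∑ b, n a b * (charDegree ((b : IrrCharacter X) : X → ℂ) : ℤ) = 0 := by
  choose n hn3 hn using fun a b : A => h.int a a.2 b b.2
  have hn' : ∀ a b : A,
      9 * classInner ((b : IrrCharacter X) : X → ℂ) (sg 3 ((a : IrrCharacter X) : X → ℂ)) = n a b := by
    intro a b
    have h1 := congrArg conj (hn a b)
    rwa [map_mul, classInner_conj_symm, map_intCast, map_ofNat] at h1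
  refine ⟨n, hn, fun a b => ?_, hn3, fun a c => ?_, fun a => ?_⟩
  · have h1 : (n a b : ℂ) = n b a := by rw [← hn, ← hn' b a, inner_sg_left]
    exact_mod_cast h1
  · have h1 : ((∑ b, n a b * n c b : ℤ) : ℂ) = ((9 * n a c : ℤ) : ℂ) := by
      push_cast
      rw [← hn a c, ← sg_sg, inner_sg_left, inner_eq_sum (h.mem a a.2), Finset.mul_sum, Finset.mul_sum]
      refine Finset.sum_congr rfl fun b _ => ?_
      rw [← hn, ← hn']
      ring
    exact_mod_cast h1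
  · have h1 := congrFun (span_eq_sum (h.mem a a.2)) 1
    rw [H608.TI.sg_of_reg reg_one, Finset.sum_apply] at h1
    have h2 : ((∑ b, n a b * (charDegree ((b : IrrCharacter X) : X → ℂ) : ℤ) : ℤ) : ℂ) = 0 := by
      push_cast
      rw [← mul_zero 9, h1, Finset.mul_sum]
      refine Finset.sum_congr rfl fun b _ => ?_
      rw [Pi.smul_apply, smul_eq_mul, ← hn, irr_one_eq_charDegree (b : IrrCharacter X).2]
      ring
    exact_mod_cast h2

/-- **Rank one.** -/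
theorem Base.six (h : Base A) (D : IrrCharacter X → ℤ)
    (hD : ∀ χ ∈ A, ∀ ψ ∈ A, 9 * classInner (sg 3 (χ : X → ℂ)) (ψ : X → ℂ) = D χ * D ψ)
    {a t : IrrCharacter X} (ha : a ∈ A) (ht : t ∈ A) (ha1 : D a ^ 2 = 1) (ht4 : D t ^ 2 = 4)
    (h4 : ∀ u : IrrCharacter X, (D a * charDegree (a : X → ℂ) + D t * charDegree (t : X → ℂ)) ^ 2 ≠
      4 * (charDegree (u : X → ℂ) : ℤ) ^ 2) : Nat.card A = 6 := by
  have := finite_irr (G := X)
  have := Fintype.ofFinite A
  obtain ⟨n, hn, -, hn3, hq, hz⟩ := h.matrix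
  have hnD : ∀ b c : A, n b c = D b * D c := by
    intro b c
    have h1 : (n b c : ℂ) = ((D b * D c : ℤ) : ℂ) := by
      rw [← hn, hD b b.2 c c.2]
      push_cast
      rfl
    exact_mod_cast h1
  have ha0 : D a ≠ 0 := by
    intro e
    rw [e] at ha1
    omega
  rw [Nat.card_eq_fintype_card]
  refine comb_one (fun b : A => D b) (fun b : A => (charDegree ((b : IrrCharacter X) : X → ℂ) : ℤ)) ?_ ?_ ?_
    ⟨a, ha⟩ ⟨t, ht⟩ ha1 ht4 fun u => h4 u
  · intro b e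
    apply hn3 b b
    rw [hnD, e, zero_mul]
    exact dvd_zero 3
  · have h1 := hq ⟨a, ha⟩ ⟨a, ha⟩
    simp only [hnD] at h1
    have h2 : ∑ b : A, D a * D b * (D a * D b) = D a ^ 2 * ∑ b : A, D b ^ 2 := by
      rw [Finset.mul_sum]
      exact Finset.sum_congr rfl fun b _ => by ring
    rw [h2, ← sq, ha1] at h1
    omega
  · have h1 := hz ⟨a, ha⟩
    simp only [hnD, mul_assoc] at h1
    rw [← Finset.mul_sum] at h1
    exact (mul_eq_zero.1 h1).resolve_left ha0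

/-- the multiples of `W` -/
structure Wd (A : Set (IrrCharacter X)) (E W : X → ℂ) : Prop where
  eq : ∀ χ ∈ A, ∃ d : ℤ, sg 3 (χ : X → ℂ) * E = (d : ℂ) • W ∧ 9 * classInner W (χ : X → ℂ) = d
  ne : ∃ χ ∈ A, classInner W (χ : X → ℂ) ≠ 0

open Classical in
/-- the coefficient -/
noncomputable def dv (W : X → ℂ) (χ : IrrCharacter X) : ℤ :=
  if h : ∃ d : ℤ, 9 * classInner W (χ : X → ℂ) = d then h.choose else 0

theorem dv_eq {W : X → ℂ} {χ : IrrCharacter X} {d : ℤ} (h : 9 * classInner W (χ : X → ℂ) = d) : dv W χ = d := by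
  have h1 : ∃ d : ℤ, 9 * classInner W (χ : X → ℂ) = d := ⟨d, h⟩
  have h2 : ((h1.choose : ℤ) : ℂ) = d := by rw [← h1.choose_spec, h]
  rw [dv, dif_pos h1]
  exact_mod_cast h2

theorem Wd.spec {E W : X → ℂ} (h : Wd A E W) {χ : IrrCharacter X} (hχ : χ ∈ A) :
    sg 3 (χ : X → ℂ) * E = (dv W χ : ℂ) • W ∧ 9 * classInner W (χ : X → ℂ) = dv W χ := by
  obtain ⟨d, h1, h2⟩ := h.eq χ hχ
  rw [dv_eq h2]
  exact ⟨h1, h2⟩

theorem Wd.exists_eq {E W : X → ℂ} (h : Wd A E W) : ∃ χ ∈ A, ∃ c : ℂ, W = c • (sg 3 (χ : X → ℂ) * E) := by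
  obtain ⟨χ, hχ, h0⟩ := h.ne
  obtain ⟨h1, h2⟩ := h.spec hχ
  have h3 : (dv W χ : ℂ) ≠ 0 := by
    rw [← h2]
    exact mul_ne_zero (by norm_num) h0
  exact ⟨χ, hχ, (dv W χ : ℂ)⁻¹, by rw [h1, smul_smul, inv_mul_cancel₀ h3, one_smul]⟩

/-- the inequality for the degrees -/
def Ineq (X : Type u) [Group X] (d₁ d₂ : ℤ) (f₁ f₂ : ℕ) : Prop :=
  ∀ f : ℕ, (f = f₂ ∨ ∃ u : IrrCharacter X, charDegree (u : X → ℂ) = f) → (d₁ * f₁ + d₂ * f₂) ^ 2 ≠ 4 * (f : ℤ) ^ 2

/-- **Index one.** -/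
theorem six_of_one (h : Base A) {W : X → ℂ} (hW : Wd A 1 W) {d₁ d₂ : ℤ} {f₁ f₂ : ℕ} (hd₁ : d₁ ^ 2 = 1)
    (hd₂ : d₂ ^ 2 = 4) (h1 : ∃ χ : IrrCharacter X, 9 * classInner W (χ : X → ℂ) = d₁ ∧ (χ : X → ℂ) 1 = f₁)
    (h2 : ∃ χ : IrrCharacter X, 9 * classInner W (χ : X → ℂ) = d₂ ∧ (χ : X → ℂ) 1 = f₂)
    (h4 : Ineq X d₁ d₂ f₁ f₂) : Nat.card A = 6 := by
  have hWA : W ∈ charSpan A := by
    obtain ⟨χ, hχ, c, hc⟩ := hW.exists_eq
    rw [hc, mul_one]
    exact Submodule.smul_mem _ _ (h.mem χ hχ)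
  have hmem : ∀ (χ : IrrCharacter X) (d : ℤ), d ≠ 0 → 9 * classInner W (χ : X → ℂ) = d → χ ∈ A := by
    intro χ d hd e
    by_contra hχ
    rw [inner_zero hχ hWA, mul_zero] at e
    exact hd (by exact_mod_cast e.symm)
  obtain ⟨a, a1, a2⟩ := h1
  obtain ⟨t, t1, t2⟩ := h2
  refine h.six (dv W) (fun χ hχ ψ hψ => ?_) (hmem a d₁ (by rintro rfl; omega) a1) (hmem t d₂ (by rintro rfl; omega) t1)
    (by rw [dv_eq a1, hd₁]) (by rw [dv_eq t1, hd₂]) fun u => ?_
  · have e1 := (hW.spec hχ).1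
    rw [mul_one] at e1
    rw [e1, classInner_smul_left, ← (hW.spec hψ).2]
    ring
  · rw [dv_eq a1, dv_eq t1, charDegree_of_eq a2, charDegree_of_eq t2]
    exact h4 _ (Or.inr ⟨u, rfl⟩)

section two

variable {H : Subgroup X} (hH : H.index = 2)

/-- the sign character -/
noncomputable abbrev ep : X → ℂ := HKS.CosetTwo.sg hH

/-- the twist by the sign character -/
noncomputable def tw (χ : IrrCharacter X) : IrrCharacter X :=
  ⟨(χ : X → ℂ) * ep hH, HKS.CosetTwo.isIrr_mul_sg hH χ.2⟩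

theorem tw_coe (χ : IrrCharacter X) : (tw hH χ : X → ℂ) = (χ : X → ℂ) * ep hH := rfl

theorem tw_tw (χ : IrrCharacter X) : tw hH (tw hH χ) = χ := Subtype.ext (HKS.CosetTwo.mul_sg_mul_sg hH _)

theorem tw_deg (χ : IrrCharacter X) : charDegree (tw hH χ : X → ℂ) = charDegree (χ : X → ℂ) := by
  unfold charDegree
  rw [tw_coe, Pi.mul_apply, ep, HKS.CosetTwo.sg_of_mem hH H.one_mem, mul_one]

theorem E_mul_ep (θ : X → ℂ) : θ * (1 + ep hH) * ep hH = θ * (1 + ep hH) := by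
  funext g
  have := HKS.CosetTwo.sg_mul_self hH g
  simp only [Pi.mul_apply, Pi.add_apply, Pi.one_apply]
  linear_combination θ g * this

theorem inner_E (θ : X → ℂ) (ψ : IrrCharacter X) :
    classInner (θ * (1 + ep hH)) (ψ : X → ℂ) = classInner θ (ψ : X → ℂ) + classInner θ (tw hH ψ : X → ℂ) := by
  rw [mul_add, mul_one, classInner_add_left, HKS.CosetTwo.classInner_mul_sg, tw_coe]

variable {hH} {W : X → ℂ}

theorem Wd.mul_ep (hW : Wd A (1 + ep hH) W) : W * ep hH = W := by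
  obtain ⟨χ, -, c, hc⟩ := hW.exists_eq
  rw [hc, smul_mul_assoc, E_mul_ep]

theorem Wd.inner_tw (hW : Wd A (1 + ep hH) W) (ψ : IrrCharacter X) :
    classInner W (tw hH ψ : X → ℂ) = classInner W (ψ : X → ℂ) := by
  rw [tw_coe, ← HKS.CosetTwo.classInner_mul_sg, hW.mul_ep]

theorem Wd.pair (hW : Wd A (1 + ep hH) W) {χ ψ : IrrCharacter X} (hχ : χ ∈ A) (hψ : ψ ∈ A) :
    9 * classInner (sg 3 (χ : X → ℂ)) (ψ : X → ℂ) + 9 * classInner (sg 3 (χ : X → ℂ)) (tw hH ψ : X → ℂ) =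
      dv W χ * dv W ψ := by
  rw [← mul_add, ← inner_E, (hW.spec hχ).1, classInner_smul_left, ← (hW.spec hψ).2]
  ring

theorem Wd.mem_or (h : Base A) (hW : Wd A (1 + ep hH) W) {ψ : IrrCharacter X} (h0 : classInner W (ψ : X → ℂ) ≠ 0) :
    ψ ∈ A ∨ tw hH ψ ∈ A := by
  by_contra e
  push Not at e
  obtain ⟨χ, hχ, c, hc⟩ := hW.exists_eq
  apply h0
  rw [hc, classInner_smul_left, inner_E, inner_zero e.1 (h.mem χ hχ), inner_zero e.2 (h.mem χ hχ), add_zero, mul_zero]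

theorem Wd.tw_of_zero (h : Base A) (hW : Wd A (1 + ep hH) W) {χ : IrrCharacter X} (hχ : χ ∈ A) (h0 : dv W χ = 0)
    {ψ : IrrCharacter X} (hψ : ψ ∈ A) : tw hH ψ ∈ A := by
  by_contra e
  have e1 := hW.pair hχ hψ
  obtain ⟨n, hn, e2⟩ := h.int χ hχ ψ hψ
  rw [inner_zero e (h.mem χ hχ), e2, h0] at e1
  have e3 : n = 0 := by exact_mod_cast (by simpa using e1 : (n : ℂ) = 0)
  exact hn (e3 ▸ dvd_zero 3)

theorem Wd.stable (h : Base A) (hW : Wd A (1 + ep hH) W) (hWA : W ∈ charSpan A) {χ : IrrCharacter X} (hχ : χ ∈ A) :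
    tw hH χ ∈ A := by
  by_cases h0 : dv W χ = 0
  · exact hW.tw_of_zero h hχ h0 hχ
  · by_contra e
    have e1 := inner_zero e hWA
    rw [hW.inner_tw] at e1
    have e2 := (hW.spec hχ).2
    rw [e1, mul_zero] at e2
    exact h0 (by exact_mod_cast e2.symm)

theorem Wd.unstable (h : Base A) (hW : Wd A (1 + ep hH) W) (hWA : W ∉ charSpan A) {χ : IrrCharacter X} (hχ : χ ∈ A) :
    tw hH χ ∉ A := by
  intro e
  have key : ∀ ψ ∈ A, tw hH ψ ∈ A → sg 3 (ψ : X → ℂ) * (1 + ep hH) ∈ charSpan A := by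
    intro ψ h1 h2
    rw [mul_add, mul_one, ← sg_mul]
    exact Submodule.add_mem _ (h.mem ψ h1) (h.mem _ h2)
  apply hWA
  by_cases h0 : dv W χ = 0
  · obtain ⟨ψ, hψ, c, hc⟩ := hW.exists_eq
    rw [hc]
    exact Submodule.smul_mem _ _ (key ψ hψ (hW.tw_of_zero h hχ h0 hψ))
  · have e1 := key χ hχ e
    rw [(hW.spec hχ).1] at e1
    exact (Submodule.smul_mem_iff _ (by exact_mod_cast h0)).1 e1

/-- a character over an irreducible character of `H` with coefficient `d` and degree `f` -/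
def Lift (hH : H.index = 2) (W : X → ℂ) (d : ℤ) (f : ℕ) : Prop :=
  ∃ χ : IrrCharacter X, (tw hH χ ≠ χ ∧ 9 * classInner W (χ : X → ℂ) = d ∧ (χ : X → ℂ) 1 = f) ∨
    (tw hH χ = χ ∧ 9 * classInner W (χ : X → ℂ) = ((2 * d : ℤ) : ℂ) ∧ (χ : X → ℂ) 1 = ((2 * f : ℕ) : ℂ))

/-- **Index two, the block is not stable.** -/
theorem six_of_unstable (h : Base A) (hW : Wd A (1 + ep hH) W) (hWA : W ∉ charSpan A) {d₁ d₂ : ℤ} {f₁ f₂ : ℕ}
    (hd₁ : d₁ ^ 2 = 1) (hd₂ : d₂ ^ 2 = 4) (h1 : Lift hH W d₁ f₁) (h2 : Lift hH W d₂ f₂)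
    (h4 : Ineq X d₁ d₂ f₁ f₂) : Nat.card A = 6 := by
  have key : ∀ (d : ℤ) (f : ℕ), d ≠ 0 → Lift hH W d f →
      ∃ χ ∈ A, dv W χ = d ∧ charDegree (χ : X → ℂ) = f := by
    rintro d f hd ⟨χ, ⟨-, e1, e2⟩ | ⟨e0, e1, -⟩⟩
    · have e3 : classInner W (χ : X → ℂ) ≠ 0 := by
        intro e
        rw [e, mul_zero] at e1
        exact hd (by exact_mod_cast e1.symm)
      rcases hW.mem_or h e3 with e | e
      · exact ⟨χ, e, dv_eq e1, charDegree_of_eq e2⟩
      · exact ⟨_, e, dv_eq (by rw [hW.inner_tw, e1]), by rw [tw_deg, charDegree_of_eq e2]⟩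
    · exfalso
      have e3 : classInner W (χ : X → ℂ) ≠ 0 := by
        intro e
        rw [e, mul_zero] at e1
        have e4 : 2 * d = 0 := by exact_mod_cast e1.symm
        omega
      have e4 : χ ∈ A := by
        rcases hW.mem_or h e3 with e | e
        · exact e
        · rwa [e0] at e
      exact hW.unstable h hWA e4 (by rwa [e0])
  obtain ⟨a, a0, a1, a2⟩ := key d₁ f₁ (by rintro rfl; omega) h1
  obtain ⟨t, t0, t1, t2⟩ := key d₂ f₂ (by rintro rfl; omega) h2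
  refine h.six (dv W) (fun χ hχ ψ hψ => ?_) a0 t0 (by rw [a1, hd₁]) (by rw [t1, hd₂]) fun u => ?_
  · rw [← hW.pair hχ hψ, inner_zero (hW.unstable h hWA hψ) (h.mem χ hχ), mul_zero, add_zero]
  · rw [a1, t1, a2, t2]
    exact h4 _ (Or.inr ⟨u, rfl⟩)

/-- **Index two, the block is stable.** -/
theorem six_or_nine (h : Base A) (hW : Wd A (1 + ep hH) W) (hWA : W ∈ charSpan A) {d₁ d₂ : ℤ} {f₁ f₂ : ℕ}
    (hd₁ : d₁ ^ 2 = 1) (hd₂ : d₂ ^ 2 = 4) (h1 : Lift hH W d₁ f₁) (h2 : Lift hH W d₂ f₂)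
    (h4 : Ineq X d₁ d₂ f₁ f₂) : (Nat.card A = 6 ∧ HasTwo A) ∨ (Nat.card A = 9 ∧ ¬ HasTwo A) := by
  classical
  have := finite_irr (G := X)
  have := Fintype.ofFinite A
  obtain ⟨n, hn, hs, hn3, hq, hz⟩ := h.matrix
  let σ : A → A := fun a => ⟨tw hH a, hW.stable h hWA a.2⟩
  let D : A → ℤ := fun a => dv W a
  let deg : A → ℤ := fun a => (charDegree ((a : IrrCharacter X) : X → ℂ) : ℤ)
  have hT : Two σ n D deg := by
    refine ⟨fun a => Subtype.ext (tw_tw hH _), hs, hn3, hq, fun a b => ?_, fun a => ?_, fun a => ?_, hz⟩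
    · have e1 : ((n a b + n a (σ b) : ℤ) : ℂ) = ((D a * D b : ℤ) : ℂ) := by
        push_cast
        rw [← hn, ← hn]
        exact hW.pair a.2 b.2
      exact_mod_cast e1
    · exact dv_eq (by rw [hW.inner_tw]; exact (hW.spec a.2).2)
    · exact congrArg Nat.cast (tw_deg hH _)
  have key : ∀ (d : ℤ) (f : ℕ), d ≠ 0 → Lift hH W d f →
      ∃ a, (σ a ≠ a ∧ D a = d ∧ deg a = f) ∨ (σ a = a ∧ D a = 2 * d ∧ deg a = 2 * f) := by
    rintro d f hd ⟨χ, ⟨e0, e1, e2⟩ | ⟨e0, e1, e2⟩⟩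
    · have e3 : χ ∈ A := by
        by_contra e
        rw [inner_zero e hWA, mul_zero] at e1
        exact hd (by exact_mod_cast e1.symm)
      exact ⟨⟨χ, e3⟩, Or.inl ⟨fun e => e0 (congrArg Subtype.val e), dv_eq e1,
        congrArg Nat.cast (charDegree_of_eq e2)⟩⟩
    · have e3 : χ ∈ A := by
        by_contra e
        rw [inner_zero e hWA, mul_zero] at e1
        have e4 : 2 * d = 0 := by exact_mod_cast e1.symm
        omega
      refine ⟨⟨χ, e3⟩, Or.inr ⟨Subtype.ext e0, dv_eq e1, ?_⟩⟩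
      change (charDegree (χ : X → ℂ) : ℤ) = _
      rw [charDegree_of_eq e2]
      push_cast
      rfl
  obtain ⟨t, t1, t4, tu⟩ := hT.exists_pair hd₁ hd₂ (key d₁ f₁ (by rintro rfl; omega) h1)
    (key d₂ f₂ (by rintro rfl; omega) h2) (by
      rintro f (rfl | ⟨a, rfl⟩)
      · exact h4 _ (Or.inl rfl)
      · exact h4 _ (Or.inr ⟨a, rfl⟩))
  rw [Nat.card_eq_fintype_card]
  rcases hT.main t1 t4 tu with ⟨e1, a, a1, a2⟩ | ⟨e1, e2⟩
  · refine Or.inl ⟨e1, ?_⟩
    have hne : ((a : IrrCharacter X) : X → ℂ) ≠ ((σ a : IrrCharacter X) : X → ℂ) :=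
      fun e => a1 (Subtype.ext (Subtype.ext e.symm))
    have hv : classInner (((a : IrrCharacter X) : X → ℂ) - ((σ a : IrrCharacter X) : X → ℂ))
        (((a : IrrCharacter X) : X → ℂ) - ((σ a : IrrCharacter X) : X → ℂ)) = 2 := by
      rw [classInner_sub_left, classInner_sub_right, classInner_sub_right, classInner_irr_self (a : IrrCharacter X).2,
        classInner_irr_self (σ a : IrrCharacter X).2,
        classInner_irr_ne (a : IrrCharacter X).2 (σ a : IrrCharacter X).2 hne,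
        classInner_irr_ne (σ a : IrrCharacter X).2 (a : IrrCharacter X).2 hne.symm]
      norm_num
    refine ⟨((a : IrrCharacter X) : X → ℂ) - ((σ a : IrrCharacter X) : X → ℂ),
      Submodule.sub_mem _ (mem_span_of_mem a.2) (mem_span_of_mem (σ a).2), ?_, hv, fun χ _ => ?_⟩
    · have : Fact (Nat.Prime 3) := ⟨Nat.prime_three⟩
      set v := ((a : IrrCharacter X) : X → ℂ) - ((σ a : IrrCharacter X) : X → ℂ) with hvdef
      have e3 : 9 * classInner (sg 3 v) v = 18 := by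
        have e4 : n (σ a) (σ a) = n a a := by rw [← hT.swap, hT.inv]
        have e5 : ((n a a - n a (σ a) : ℤ) : ℂ) = 9 := by rw [a2]; norm_num
        rw [hvdef, map_sub, classInner_sub_left, classInner_sub_right, classInner_sub_right, mul_sub, mul_sub, mul_sub,
          hn, hn, hn, hn, e4, hT.symm (σ a) a]
        push_cast at e5
        linear_combination 2 * e5
      apply classInner_self_eq_zero
      rw [inner_pReg_left, H608.TI.pReg_pReg, ← inner_pReg_left]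
      rw [H608.TI.sg_apply, classInner_sub_left, hv] at e3
      linear_combination -e3 / 9
    · obtain ⟨m, hm⟩ := classInner_isNat (isIrr_isCharacter (a : IrrCharacter X).2) (isIrr_isCharacter χ.2)
      obtain ⟨m', hm'⟩ := classInner_isNat (isIrr_isCharacter (σ a : IrrCharacter X).2) (isIrr_isCharacter χ.2)
      exact ⟨m - m', by rw [classInner_sub_left, hm, hm']; push_cast; rfl⟩
  · refine Or.inr ⟨e1, ?_⟩
    rintro ⟨v, v1, v2, v3, v4⟩
    choose c hc using fun a : A => v4 a a.2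
    have hc' : ∀ a : A, classInner ((a : IrrCharacter X) : X → ℂ) v = c a := by
      intro a
      rw [← classInner_conj_symm, hc, map_intCast]
    refine hT.no_two e2 c ?_ fun a => ?_
    · have e3 : ((∑ a, c a ^ 2 : ℤ) : ℂ) = ((2 : ℤ) : ℂ) := by
        push_cast
        rw [← v3, inner_eq_sum v1]
        exact Finset.sum_congr rfl fun a _ => by rw [hc, hc', sq]
      exact_mod_cast e3
    · have e3 : ((∑ b, c b * n a b : ℤ) : ℂ) = ((9 * c a : ℤ) : ℂ) := by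
        push_cast
        rw [← hc', ← sg_of_zero v2, ← inner_sg_left, inner_eq_sum (h.mem a a.2), Finset.mul_sum]
        refine Finset.sum_congr rfl fun b _ => ?_
        rw [← hn, hc']
        ring
      exact_mod_cast e3

end two

end Cfsg.Agent.TID.N9
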