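import Mathlib
import Cfsg.Agent.TID.N9.Abs
import Cfsg.Agent.H820.K6.ASix
import Cfsg.Agent.H424.SimpleFactsAlt
import Cfsg.Agent.H606.ThreePrimes
import Cfsg.Agent.H692.RealOver
import Cfsg.Agent.H525.ExtMult
import Cfsg.Agent.CharactersDeep.Extraspecial
import Cfsg.Agent.CharactersDeep.ExtUnique
import Cfsg.Agent.H55.Pb.EpsMap
import Cfsg.Agent.S4580
import Cfsg.Agent.S0936
import Cfsg.Agent.S0922
import Cfsg.Agent.S0919

/-!
# S4622, defect group of order nine: the centralizer (helper27)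

* `IsSt M θ`: the character of degree nine of `A₆`;
* `LC D Z C pr pd`: `C` is a central extension of `A₆` by `D Z` with a retraction `pd` onto `D`;
* `LC.descend`: the irreducible characters of `C` over an extendible character of `Z`;
* `LC.sec_of_not_principal`: the values of a nonprincipal character on the section of `x`.
-/

set_option autoImplicit false
set_option linter.unusedSectionVars false

namespace Cfsg.Agent.TID.N9

open Cfsg Cfsg.Agent.H608.BlockRank Cfsg.Agent.Blocks.Basic Cfsg.Agent.Blocks.Local Cfsg.Agent.TID.Blk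
  Cfsg.Agent.Characters.Core
open scoped ComplexConjugate

universe u

/-- the alternating group of degree six -/
abbrev A6 : Type := alternatingGroup (Fin 6)

theorem card_A6 : Nat.card A6 = 360 := H820.K6.ASix.card_A6

theorem simple_A6 : IsSimpleGroup A6 := alternatingGroup.isSimpleGroup (by simp)

theorem fact_360 : (360 : ℕ).factorization 3 = 2 := by
  have h1 : (360 : ℕ) = 3 ^ 2 * 40 := by norm_num
  rw [h1, Nat.factorization_mul (by norm_num) (by norm_num), Finsupp.add_apply, Nat.Prime.factorization_pow Nat.prime_three,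
    Finsupp.single_eq_same, Nat.factorization_eq_zero_of_not_dvd (by norm_num)]

theorem hom_A6 (f : A6 →* ℂˣ) : f = 1 := by
  rcases simple_A6.eq_bot_or_eq_top_of_normal f.ker inferInstance with h | h
  · exfalso
    have hinj := (MonoidHom.ker_eq_bot_iff f).1 h
    let _ : CommGroup A6 := { mul_comm := fun a b => hinj (by rw [map_mul, map_mul, mul_comm]) }
    have := simple_A6
    have h3 : (Nat.card A6).Prime := IsSimpleGroup.prime_card
    rw [card_A6] at h3
    exact absurd h3 (by norm_num)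
  · ext x
    have h1 : x ∈ f.ker := h ▸ Subgroup.mem_top x
    rw [MonoidHom.mem_ker.1 h1]
    rfl

/-- the character of degree nine -/
structure IsSt (M : Ideal AlgInt) (θ : IrrCharacter A6) : Prop where
  deg : (θ : A6 → ℂ) 1 = (9 : ℕ)
  uniq : ∀ η : IrrCharacter A6, η ∉ principalBlock M A6 → η = θ
  uniq' : ∀ η : IrrCharacter A6, 3 ∣ charDegree (η : A6 → ℂ) → η = θ
  van : ∀ g, ¬ IsPRegular 3 g → (θ : A6 → ℂ) g = 0

theorem exists_st {M : Ideal AlgInt} (hM : IsPModular 3 M) : ∃ θ, IsSt M θ := by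
  have : Fact (Nat.Prime 3) := ⟨Nat.prime_three⟩
  have := simple_A6
  have := finite_irr (G := A6)
  obtain ⟨θ, hθ⟩ := H424.SimpleFactsAlt.nine_360 card_A6
  have h1 : ∀ η : IrrCharacter A6, 3 ∣ charDegree (η : A6 → ℂ) → η ∉ principalBlock M A6 := fun η h h' =>
    H606.ThreePrimes.not_dvd_degree hM (by rw [card_A6, fact_360]) (by rw [card_A6]; norm_num) h' h
  have h2 : ∀ η : IrrCharacter A6, η ∉ principalBlock M A6 → η = θ := by
    intro η hη
    have h3 := Finite.card_le_one_iff_subsingleton.1 (H820.K6.ASix.out hM)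
    exact congrArg Subtype.val (h3.elim ⟨η, hη⟩ ⟨θ, h1 θ (by rw [hθ]; norm_num)⟩)
  refine ⟨θ, by rw [irr_one_eq_charDegree θ.2, hθ], h2, fun η h => h2 η (h1 η h), fun g hg => ?_⟩
  exact H692.RealOver.defect_zero_vanish θ.2 3 Nat.prime_three (by rw [card_A6, fact_360, hθ]; norm_num) (not_not.1 hg)

variable {Γ : Type u} [Group Γ] [Finite Γ]

/-- the structure of the centralizer -/
structure LC (D Z C : Subgroup Γ) (pr : C →* A6) (pd : C →* Γ) : Prop where
  card : Nat.card D = 9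
  DC : D ≤ C
  ZC : Z ≤ C
  comm : ∀ c ∈ C, ∀ x ∈ D, c * x = x * c
  cen : Z ≤ Subgroup.center Γ
  reg : ∀ z ∈ Z, IsPRegular 3 z
  surj : Function.Surjective pr
  ker : ∀ c : C, pr c = 1 ↔ (pd c)⁻¹ * c ∈ Z
  pd_mem : ∀ c, pd c ∈ D
  pd_eq : ∀ c : C, (c : Γ) ∈ D → pd c = c

variable {D Z C : Subgroup Γ} {pr : C →* A6} {pd : C →* Γ}

theorem LC.pow (h : LC D Z C pr pd) {x : Γ} (hx : x ∈ D) : x ^ 9 = 1 := by
  have h1 := pow_card_eq_one' (x := (⟨x, hx⟩ : D))
  rw [h.card] at h1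
  exact congrArg Subtype.val h1

theorem LC.order (h : LC D Z C pr pd) {x : Γ} (hx : x ∈ D) : ∃ k, orderOf x = 3 ^ k := by
  obtain ⟨k, -, hk⟩ := (Nat.dvd_prime_pow Nat.prime_three (m := 2)).1 (orderOf_dvd_of_pow_eq_one (h.pow hx))
  exact ⟨k, hk⟩

theorem LC.eq_one (h : LC D Z C pr pd) {x : Γ} (hx : x ∈ D) (hr : IsPRegular 3 x) : x = 1 := by
  obtain ⟨k, hk⟩ := h.order hx
  rcases k with _ | k
  · exact orderOf_eq_one_iff.1 hk
  · exact absurd (hk ▸ Dvd.intro_left _ (pow_succ 3 k).symm) hr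

theorem LC.pd_reg (h : LC D Z C pr pd) {c : C} (hc : IsPRegular 3 (c : Γ)) : pd c = 1 :=
  h.eq_one (h.pd_mem c) fun h1 => hc (by
    rw [Subgroup.orderOf_coe]
    exact h1.trans (orderOf_map_dvd pd c))

theorem LC.pr_D (h : LC D Z C pr pd) {c : C} (hc : (c : Γ) ∈ D) : pr c = 1 := by
  rw [h.ker, h.pd_eq c hc, inv_mul_cancel]
  exact Z.one_mem

theorem LC.pr_Z (h : LC D Z C pr pd) {c : C} (hc : (c : Γ) ∈ Z) : pr c = 1 := by
  rw [h.ker, h.pd_reg (h.reg _ hc), inv_one, one_mul]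
  exact hc

/-- the retraction with values in the centre -/
def LC.pc (h : LC D Z C pr pd) : C →* Subgroup.center C :=
  (pd.codRestrict C fun c => h.DC (h.pd_mem c)).codRestrict _ fun c =>
    Subgroup.mem_center_iff.2 fun g => Subtype.ext (h.comm g g.2 _ (h.pd_mem c))

theorem LC.pc_coe (h : LC D Z C pr pd) (c : C) : ((h.pc c : C) : Γ) = pd c := rfl

/-- the elements of `ker pd` with regular image are regular -/
theorem LC.reg_of (h : LC D Z C pr pd) {c : C} (h1 : pd c = 1) (h2 : IsPRegular 3 (pr c)) : IsPRegular 3 (c : Γ) := by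
  have h3 : pr (c ^ orderOf (pr c)) = 1 := by rw [map_pow, pow_orderOf_eq_one]
  rw [h.ker, map_pow, h1, one_pow, inv_one, one_mul] at h3
  have h4 := h.reg _ h3
  intro h5
  have h6 : orderOf (c : Γ) ∣ orderOf (pr c) * orderOf ((c ^ orderOf (pr c) : C) : Γ) := by
    apply orderOf_dvd_of_pow_eq_one
    rw [pow_mul, ← Subgroup.coe_pow, pow_orderOf_eq_one]
  rcases (Nat.Prime.dvd_mul Nat.prime_three).1 (h5.trans h6) with h7 | h7
  · exact h2 h7
  · exact h4 h7

/-- **Descent to `A₆`.** -/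
theorem LC.descend (h : LC D Z C pr pd) (lam : C →* ℂˣ) {η : C → ℂ} (hη : IsIrrCharacter C η)
    (hl : ∀ z : C, (z : Γ) ∈ Z → η z = lam z * η 1) :
    ∃ (ηb : IrrCharacter A6) (ω : C →* ℂˣ), (∀ c, ω c ^ 9 = 1) ∧ (∀ c c', pd c = pd c' → ω c = ω c') ∧
      ∀ c, η c = ω c * lam c * (ηb : A6 → ℂ) (pr c) := by
  obtain ⟨cc, hcc, -⟩ := CharactersDeep.Extraspecial.exists_central_hom hη
  obtain ⟨ω, hω⟩ : ∃ ω : C →* ℂˣ, ∀ c, ω c = cc (h.pc c) * (lam (h.pc c : C))⁻¹ :=
    ⟨cc.comp h.pc * (lam.comp ((Subgroup.center C).subtype.comp h.pc))⁻¹, fun c => rfl⟩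
  have h1 := CharactersDeep.ExtUnique.isIrr_mul_hom hη (ω * lam)⁻¹
  obtain ⟨χ, hχ, e⟩ := H576.Ext.exists_irr_of_ker pr h.surj h1 (by
    intro z hz
    rw [h.ker] at hz
    have e1 : z = ((h.pc z : C)⁻¹ * z) * (h.pc z : C) := by
      rw [Subgroup.mem_center_iff.1 (h.pc z).2, mul_inv_cancel_left]
    have e2 := hcc ((h.pc z : C)⁻¹ * z) (h.pc z)
    rw [← e1, hl ((h.pc z : C)⁻¹ * z) hz] at e2
    rw [e2, map_one, Units.val_one, mul_one, MonoidHom.inv_apply, MonoidHom.mul_apply, hω, map_mul, map_inv]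
    push_cast
    have := (cc (h.pc z)).ne_zero
    have := (lam z).ne_zero
    have := (lam (h.pc z : C)).ne_zero
    field_simp)
  refine ⟨⟨χ, hχ⟩, ω, fun c => ?_, fun c c' hc => ?_, fun c => ?_⟩
  · have e1 : h.pc c ^ 9 = 1 := Subtype.ext (Subtype.ext (h.pow (h.pd_mem c)))
    rw [hω, mul_pow, inv_pow, ← map_pow cc, ← map_pow lam, ← Subgroup.coe_pow, e1]
    simp
  · have e1 : h.pc c = h.pc c' := Subtype.ext (Subtype.ext hc)
    rw [hω, hω, e1]
  · change η c = _ * χ (pr c)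
    rw [← e c, MonoidHom.inv_apply, MonoidHom.mul_apply]
    push_cast
    have := (ω c).ne_zero
    have := (lam c).ne_zero
    field_simp

variable {M : Ideal AlgInt} {θ : IrrCharacter A6}

/-- the values at `x y` -/
theorem LC.val_of (h : LC D Z C pr pd) {lam ω : C →* ℂˣ} {η : C → ℂ} (h2 : ∀ c c', pd c = pd c' → ω c = ω c')
    (h3 : ∀ c, η c = ω c * lam c * (θ : A6 → ℂ) (pr c)) (hθ : IsSt M θ) {x y : C} (hx : (x : Γ) ∈ D)
    (hy : IsPRegular 3 (y : Γ)) : 9 * η (x * y) = η x * (lam y * (θ : A6 → ℂ) (pr y)) := by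
  rw [h3, h3, h2 (x * y) x (by rw [map_mul, h.pd_reg hy, mul_one]), map_mul, map_mul, h.pr_D hx, one_mul, hθ.deg]
  push_cast
  ring

theorem LC.val_of_dvd (h : LC D Z C pr pd) (hθ : IsSt M θ) (lam : C →* ℂˣ) {η : C → ℂ} (hη : IsIrrCharacter C η)
    (hl : ∀ z : C, (z : Γ) ∈ Z → η z = lam z * η 1) (hd : 3 ∣ charDegree η) {x y : C} (hx : (x : Γ) ∈ D)
    (hy : IsPRegular 3 (y : Γ)) : 9 * η (x * y) = η x * (lam y * (θ : A6 → ℂ) (pr y)) := by
  obtain ⟨ηb, ω, -, h2, h3⟩ := h.descend lam hη hl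
  have h4 : ηb = θ := by
    apply hθ.uniq'
    have h5 := h3 1
    rw [map_one, map_one, map_one, Units.val_one, one_mul, one_mul] at h5
    unfold charDegree at hd ⊢
    rwa [← h5]
  rw [h4] at h3
  exact h.val_of h2 h3 hθ hx hy

theorem LC.val_of_not_principal (h : LC D ⊥ C pr pd) (hM : IsPModular 3 M) (hθ : IsSt M θ) {η : IrrCharacter C}
    (hη : η ∉ principalBlock M C) {x y : C} (hx : (x : Γ) ∈ D) (hy : IsPRegular 3 (y : Γ)) :
    9 * (η : C → ℂ) (x * y) = (η : C → ℂ) x * (θ : A6 → ℂ) (pr y) := by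
  have hMp := isPrime_of_isPModular hM
  obtain ⟨ηb, ω, h1, h2, h3⟩ := h.descend 1 η.2 (by
    intro z hz
    have : z = 1 := Subtype.ext (Subgroup.mem_bot.1 hz)
    rw [this, map_one, Units.val_one, one_mul])
  have h4 : ηb = θ := by
    apply hθ.uniq
    intro hb
    apply hη
    have h5 : (⟨_, isIrr_comp pr h.surj ηb.2⟩ : IrrCharacter C) ∈ principalBlock M C :=
      H55.Pb.infl_mem hM h.surj hb fun _ => rfl
    intro g
    have h6 := h5 g
    have h7 : centralChar (η : C → ℂ) g = ω g * centralChar ((ηb : A6 → ℂ) ∘ pr) g := by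
      unfold centralChar
      rw [h3 g, h3 1]
      simp only [MonoidHom.one_apply, Units.val_one, map_one, mul_one, one_mul, Function.comp]
      ring
    have h8 : MemLocalIdeal M (1 - (ω g : ℂ)) :=
      S4580.memLocalIdeal_one_sub hM (k := 2) (by rw [← Units.val_pow_eq_pow_val]; exact congrArg Units.val (h1 g))
    have h9 := memLocalIdeal_add h6
      (memLocalIdeal_mul_right h8 (Blocks.Osima.memLocalRing_centralChar hM (isIrr_comp pr h.surj ηb.2) g))
    rw [h7]
    convert h9 using 1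
    ring
  rw [h4] at h3
  have h5 := h.val_of h2 h3 hθ hx hy
  rwa [MonoidHom.one_apply, Units.val_one, one_mul] at h5

/-- **The section of `x` for a nonprincipal character.** -/
theorem LC.sec_of_not_principal (h : LC D ⊥ C pr pd) (hM : IsPModular 3 M) (hθ : IsSt M θ) {x : C}
    (hx : (x : Γ) ∈ D) (hC : C = Subgroup.centralizer ({(x : Γ)} : Set Γ)) {ξ : IrrCharacter Γ}
    (hξ : ξ ∉ principalBlock M Γ) {y : C} (hy : IsPRegular 3 (y : Γ)) :
    9 * (ξ : Γ → ℂ) (x * y) = (ξ : Γ → ℂ) x * (θ : A6 → ℂ) (pr y) := by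
  classical
  have : Fact (Nat.Prime 3) := ⟨Nat.prime_three⟩
  have hMp := isPrime_of_isPModular hM
  have := Fintype.ofFinite C
  have := finite_irr (G := C)
  have := Fintype.ofFinite (IrrCharacter C)
  have hb0 : IsPBlock M (principalBlock M C) := ⟨⟨_, isIrrCharacter_one⟩, rfl⟩
  have hzp : IsPGroup 3 (Subgroup.zpowers (x : Γ)) := by
    obtain ⟨k, hk⟩ := h.order hx
    exact IsPGroup.of_card (by rw [Nat.card_zpowers, hk])
  have hz : Subgroup.centralizer (Subgroup.zpowers (x : Γ) : Set Γ) = C := by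
    rw [Subgroup.zpowers_eq_closure, Subgroup.centralizer_closure]
    exact hC.symm
  have hind : IsInducedBlock M C (principalBlock M C) (principalBlock M Γ) :=
    (Cfsg.Agent.S0936.result 3 M hM C _ (Cfsg.Agent.S0919.result 3 M hM (Subgroup.zpowers (x : Γ)) C hzp
      (Subgroup.zpowers_le.2 x.2) hz.le (hz.ge.trans (Subgroup.centralizer_le_normalizer _)) _ hb0)).2 rfl
  have hcl : IsClassFunction C (fun c : C => (ξ : Γ → ℂ) c) := fun g c => irr_isClassFunction ξ.2 g c
  have key : ∀ w : C, IsPRegular 3 (w : Γ) → (ξ : Γ → ℂ) (x * w) =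
      ∑ η : IrrCharacter C with η ∉ principalBlock M C,
        classInner (fun c : C => (ξ : Γ → ℂ) c) (η : C → ℂ) * (η : C → ℂ) (x * w) := by
    intro w hw
    have h1 : blockPart (principalBlock M C) (fun c : C => (ξ : Γ → ℂ) c) (x * w) = 0 := by
      rw [Blocks.BlockPart.blockPart_eq_sum _ hcl, ← finsum_eq_sum_of_fintype]
      refine Cfsg.Agent.S0922.result 3 M hM C _ _ hind (x * w) (fun z hz' => ?_) ξ hξ
      have h2 : IsPPart 3 ((x : Γ) * w) x :=
        Blocks.PPart.isPPart_mul (h.comm w w.2 x hx).symm (h.order hx) hw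
      rw [Blocks.PPart.isPPart_unique hz' h2]
      exact hC.ge
    have h2 := congrFun (classFunction_eq_sum hcl) (x * w)
    rw [H650.blockPart_eq_sum_filter, Finset.sum_apply] at h1
    rw [Finset.sum_apply, ← Finset.sum_filter_add_sum_filter_not Finset.univ (· ∈ principalBlock M C), h1,
      zero_add] at h2
    exact h2
  have h1 := key 1 (by unfold IsPRegular; rw [OneMemClass.coe_one, orderOf_one]; norm_num)
  rw [OneMemClass.coe_one, mul_one, mul_one] at h1
  rw [key y hy, h1, Finset.mul_sum, Finset.sum_mul]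
  refine Finset.sum_congr rfl fun η hη => ?_
  rw [mul_left_comm, h.val_of_not_principal hM hθ (Finset.mem_filter.1 hη).2 hx hy, mul_assoc]

end Cfsg.Agent.TID.N9
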