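import Mathlib
import Cfsg.Agent.TID.N9.Loc
import Cfsg.Agent.S0866
import Cfsg.Agent.H672.Over
import Cfsg.Agent.H596.CoverCor
import Cfsg.Agent.H669.Basic
import Cfsg.Agent.H678.Codeg
import Cfsg.Agent.H41.McLTwo.Cliff
import Cfsg.Agent.Blocks.PRegular

/-!
# S4622, defect group of order nine: the normalizer (helper27)

`LN H D Z C pr pd`: `D` is normal in `Γ`, `H` has index at most two, `C = C_H(x)` for `x ∈ D#`, `H / C` is nonabelian and
transitive on `D#`.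

* `LN.exists_tau`: the character of degree nine extends to `Γ`;
* `Sec`, `LN.sec_span`: the members of the block on the section;
* `VV`, `LN.inner_VV`, `LN.wd`: the function `W` of `N9.Abs`;
* `LN.one`, `LN.lift`: the characters with coefficients `1` and `2`.
-/

set_option autoImplicit false
set_option linter.unusedSectionVars false

namespace Cfsg.Agent.TID.N9

open Cfsg Cfsg.Agent.H608.BlockRank Cfsg.Agent.Blocks.Basic Cfsg.Agent.Blocks.Local Cfsg.Agent.TID.Blk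
  Cfsg.Agent.Characters.Core
open Cfsg.Agent.H608.TI (sg inner_zero)
open scoped ComplexConjugate

universe u

local instance factThree : Fact (Nat.Prime 3) := ⟨Nat.prime_three⟩

section gen

variable {X : Type u} [Group X] [Fintype X]

theorem Base.int' {A : Set (IrrCharacter X)} (h : Base A) {χ : IrrCharacter X} (hχ : χ ∈ A) (ψ : IrrCharacter X) :
    ∃ n : ℤ, 9 * classInner (sg 3 (χ : X → ℂ)) (ψ : X → ℂ) = n := by
  by_cases hψ : ψ ∈ A
  · obtain ⟨n, -, hn⟩ := h.int χ hχ ψ hψ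
    exact ⟨n, hn⟩
  · exact ⟨0, by rw [inner_zero hψ (h.mem χ hχ), mul_zero, Int.cast_zero]⟩

open Classical in
/-- the index times the indicator function -/
noncomputable def Ej (H : Subgroup X) : X → ℂ := fun g => if g ∈ H then (H.index : ℂ) else 0

theorem Ej_of_mem {H : Subgroup X} {g : X} (h : g ∈ H) : Ej H g = H.index := if_pos h

theorem Ej_of_not {H : Subgroup X} {g : X} (h : g ∉ H) : Ej H g = 0 := if_neg h

theorem Ej_one {H : Subgroup X} (h : H.index = 1) : Ej H = 1 := by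
  funext g
  rw [Ej_of_mem (by rw [Subgroup.index_eq_one.1 h]; trivial), h, Nat.cast_one, Pi.one_apply]

theorem Ej_two {H : Subgroup X} (h : H.index = 2) : Ej H = 1 + ep h := by
  funext g
  by_cases hg : g ∈ H
  · rw [Ej_of_mem hg, h, Pi.add_apply, ep, HKS.CosetTwo.sg_of_mem h hg, Pi.one_apply]
    norm_num
  · rw [Ej_of_not hg, Pi.add_apply, ep, HKS.CosetTwo.sg_of_notMem h hg, Pi.one_apply]
    norm_num

theorem Base.int_E {A : Set (IrrCharacter X)} (h : Base A) {H : Subgroup X} (hH : H.index ∣ 2) {χ : IrrCharacter X}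
    (hχ : χ ∈ A) (ψ : IrrCharacter X) : ∃ n : ℤ, 9 * classInner (sg 3 (χ : X → ℂ) * Ej H) (ψ : X → ℂ) = n := by
  rcases (Nat.dvd_prime Nat.prime_two).1 hH with h1 | h1
  · rw [Ej_one h1, mul_one]
    exact h.int' hχ ψ
  · obtain ⟨n, hn⟩ := h.int' hχ ψ
    obtain ⟨m, hm⟩ := h.int' hχ (tw h1 ψ)
    exact ⟨n + m, by rw [Ej_two h1, inner_E, mul_add, hn, hm, Int.cast_add]⟩

theorem tw_eq_of_van {H : Subgroup X} (hH : H.index = 2) {χ : IrrCharacter X} (h : ∀ g ∉ H, (χ : X → ℂ) g = 0) :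
    tw hH χ = χ := by
  apply Subtype.ext
  funext g
  rw [tw_coe, Pi.mul_apply, ep]
  by_cases hg : g ∈ H
  · rw [HKS.CosetTwo.sg_of_mem hH hg, mul_one]
  · rw [h g hg, zero_mul]

theorem tw_ne_of_ext {H : Subgroup X} (hH : H.index = 2) {χ : IrrCharacter X}
    (h : IsIrrCharacter H fun n : H => (χ : X → ℂ) n) : tw hH χ ≠ χ := by
  intro e
  have := Subgroup.normal_of_index_eq_two hH
  have := Fintype.ofFinite H
  have hv : H41.McLTwo.Cliff.Van H χ := by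
    intro g hg
    have h1 := congrFun (congrArg Subtype.val e) g
    rw [tw_coe, Pi.mul_apply, ep, HKS.CosetTwo.sg_of_notMem hH hg] at h1
    linear_combination -h1 / 2
  obtain ⟨η, η', hne, -, -, -, -, h1⟩ := H41.McLTwo.Cliff.two_of_van hH hv
  have key : ∀ ζ : IrrCharacter H, (ζ = η ∨ ζ = η') → (ζ : H → ℂ) = fun n : H => (χ : X → ℂ) n := by
    intro ζ hζ
    by_contra h2
    exact (h1 ζ).2 hζ (classInner_irr_ne h ζ.2 fun h3 => h2 h3.symm)
  exact hne (Subtype.ext ((key η (Or.inl rfl)).trans (key η' (Or.inr rfl)).symm))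

/-- the scalar of a central element -/
theorem scalar_of {χ : X → ℂ} (hχ : IsIrrCharacter X χ) {z : X} (hz : z ∈ Subgroup.center X) {c : ℂ}
    (h : χ z = c * χ 1) (g : X) : χ (z * g) = c * χ g := by
  obtain ⟨ω, -, hω⟩ := Blocks.CentralizerSum.exists_central_scalar hχ hz
  have h1 := hω 1
  rw [mul_one, h] at h1
  rw [hω, mul_right_cancel₀ (irr_one_ne_zero hχ) h1]

/-- constituents have the same central scalars -/
theorem scalar_of_inner {φ η : X → ℂ} (hη : IsIrrCharacter X η) {z : X} (hz : z ∈ Subgroup.center X) {c : ℂ}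
    (h : ∀ g, φ (z * g) = c * φ g) (h0 : classInner φ η ≠ 0) : η z = c * η 1 := by
  obtain ⟨ω, h1, hω⟩ := Blocks.CentralizerSum.exists_central_scalar hη hz
  have h2 := inner_sh z φ η
  have h3 : sh z φ = c • φ := funext h
  have h4 : sh z η = ω • η := funext hω
  rw [h3, h4, classInner_smul_left, classInner_smul_right] at h2
  have h5 : c * conj ω = 1 := mul_right_cancel₀ h0 (by rw [one_mul, mul_assoc]; exact h2)
  have h6 : c = ω := by linear_combination ω * h5 - c * h1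
  have h7 := hω 1
  rw [mul_one] at h7
  rw [h7, h6]

end gen

variable {Γ : Type u} [Group Γ] [Fintype Γ]

/-- the structure of the normalizer -/
structure LN (H D Z C : Subgroup Γ) (pr : C →* A6) (pd : C →* Γ) : Prop extends LC D Z C pr pd where
  Hn : H.Normal
  Dn : D.Normal
  CH : C ≤ H
  idx : H.index ∣ 2
  cent : ∀ x ∈ D, x ≠ 1 → ∀ g ∈ H, g * x = x * g → g ∈ C
  trans : ∀ x ∈ D, x ≠ 1 → ∀ y ∈ D, y ≠ 1 → ∃ n ∈ H, n * x * n⁻¹ = y
  nonab : ∃ a ∈ H, ∃ b ∈ H, a * b * a⁻¹ * b⁻¹ ∉ C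

variable {H D Z C : Subgroup Γ} {pr : C →* A6} {pd : C →* Γ} {M : Ideal AlgInt} {θ : IrrCharacter A6}

theorem LC.exists_ne (h : LC D Z C pr pd) : ∃ x ∈ D, x ≠ 1 := by
  have h1 : D ≠ ⊥ := by
    intro e
    have := h.card
    rw [e, Subgroup.card_bot] at this
    omega
  obtain ⟨x, hx⟩ := (Subgroup.ne_bot_iff_exists_ne_one).1 h1
  exact ⟨x, x.2, fun e => hx (Subtype.ext e)⟩

theorem LN.Cn (h : LN H D Z C pr pd) : C.Normal := by
  obtain ⟨x, hx, hx1⟩ := h.exists_ne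
  refine ⟨fun c hc g => h.cent x hx hx1 _ (h.Hn.conj_mem c (h.CH hc) g) ?_⟩
  have h1 := h.comm c hc _ (h.Dn.conj_mem x hx g⁻¹)
  calc g * c * g⁻¹ * x = g * (c * (g⁻¹ * x * g⁻¹⁻¹)) * g⁻¹ := by group
    _ = g * (g⁻¹ * x * g⁻¹⁻¹ * c) * g⁻¹ := by rw [h1]
    _ = x * (g * c * g⁻¹) := by group

theorem LN.relIndex (h : LN H D Z C pr pd) : C.relIndex H = 8 := by
  classical
  obtain ⟨x, hx, hx1⟩ := h.exists_ne
  have hDH : D ≤ H := h.DC.trans h.CH
  have h1 : C.subgroupOf H = Subgroup.centralizer ({⟨x, hDH hx⟩} : Set H) := by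
    ext g
    rw [Subgroup.mem_subgroupOf, Subgroup.mem_centralizer_singleton_iff]
    exact ⟨fun hg => Subtype.ext (h.comm _ hg x hx), fun hg => h.cent x hx hx1 g g.2 (congrArg Subtype.val hg)⟩
  have h2 : {y : H | IsConj ⟨x, hDH hx⟩ y} = ((D.subgroupOf H : Subgroup H) : Set H) \ {1} := by
    ext y
    constructor
    · intro hy
      obtain ⟨c, rfl⟩ := isConj_iff.1 hy
      refine ⟨h.Dn.conj_mem x hx c, fun e => hx1 ?_⟩
      have e1 : (⟨x, hDH hx⟩ : H) = 1 := by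
        rw [Set.mem_singleton_iff, mul_inv_eq_one, mul_eq_left] at e
        exact e
      exact congrArg Subtype.val e1
    · rintro ⟨hy, hy1⟩
      obtain ⟨n, hn, e⟩ := h.trans x hx hx1 y hy fun e => hy1 (Subtype.ext e)
      exact isConj_iff.2 ⟨⟨n, hn⟩, Subtype.ext e⟩
  have h3 : ((D.subgroupOf H : Subgroup H) : Set H).ncard = 9 := by
    rw [← h.card, ← Nat.card_congr (Subgroup.subgroupOfEquivOfLe hDH).toEquiv]
    rfl
  rw [Subgroup.relIndex, h1, index_centralizer_eq_ncard, h2,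
    Set.ncard_sdiff_singleton_of_mem (D.subgroupOf H).one_mem, h3]

theorem LN.index (h : LN H D Z C pr pd) : C.index = 8 * H.index := by
  rw [← Subgroup.relIndex_mul_index h.CH, h.relIndex]

theorem LN.not_dvd (h : LN H D Z C pr pd) : ¬ 3 ∣ C.index := by
  rw [h.index]
  rcases (Nat.dvd_prime Nat.prime_two).1 h.idx with h1 | h1 <;> rw [h1] <;> norm_num

theorem LC.dvd_card (h : LC D Z C pr pd) : 27 ∣ Nat.card Γ := by
  have h1 : 9 ∣ Nat.card pr.ker := by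
    rw [← h.card, ← Nat.card_congr (Subgroup.subgroupOfEquivOfLe h.DC).toEquiv]
    exact Subgroup.card_dvd_of_le fun c hc => h.pr_D hc
  have h2 := pr.ker.card_mul_index
  rw [Subgroup.index_ker, MonoidHom.range_eq_top.2 h.surj, Subgroup.card_top, card_A6] at h2
  refine Dvd.dvd.trans ?_ (Subgroup.card_subgroup_dvd_card C)
  rw [← h2]
  exact mul_dvd_mul h1 (by norm_num : 3 ∣ 360)

theorem LN.lam_D (h : LN H D Z C pr pd) (lam : Γ →* ℂˣ) {x : Γ} (hx : x ∈ D) : lam x = 1 := by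
  by_cases hx1 : x = 1
  · rw [hx1, map_one]
  obtain ⟨n, -, e⟩ := h.trans x hx hx1 x⁻¹ (D.inv_mem hx) (inv_ne_one.2 hx1)
  have h1 := congrArg lam e
  rw [map_mul, map_mul, map_inv, map_inv, mul_inv_cancel_comm] at h1
  have h2 : lam x ^ 9 = 1 := by rw [← map_pow, h.pow hx, map_one]
  have h3 : lam x ^ 2 = 1 := by
    rw [sq]
    nth_rewrite 1 [h1]
    exact inv_mul_cancel _
  calc lam x = lam x ^ 9 * ((lam x ^ 2) ^ 4)⁻¹ := by group
    _ = 1 := by rw [h2, h3]; simp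

/-- an extension of the character of degree nine -/
structure Tau (pr : C →* A6) (lam : Γ →* ℂˣ) (θ : IrrCharacter A6) (τ : IrrCharacter Γ) : Prop where
  eq : ∀ c : C, (τ : Γ → ℂ) c = lam c * (θ : A6 → ℂ) (pr c)

theorem LN.exists_tau (h : LN H D Z C pr pd) (hθ : IsSt M θ) (lam : Γ →* ℂˣ) : ∃ τ, Tau pr lam θ τ := by
  have hCn := h.Cn
  have h1 : IsIrrCharacter C ((θ : A6 → ℂ) ∘ pr) := isIrr_comp pr h.surj θ.2
  have hinv : ∀ (g : Γ) (n : C), ((θ : A6 → ℂ) ∘ pr) ⟨g * n * g⁻¹, hCn.conj_mem (n : Γ) n.2 g⟩ =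
      ((θ : A6 → ℂ) ∘ pr) n := by
    intro g n
    let f : C →* A6 := pr.comp (MulAut.conjNormal g : MulAut C).toMonoidHom
    have hf : Function.Surjective f := h.surj.comp (MulAut.conjNormal g : MulAut C).surjective
    obtain ⟨χ', h2, h3⟩ := H576.Ext.exists_irr_of_ker pr h.surj (isIrr_comp f hf θ.2) (by
      intro z hz
      rw [h.ker] at hz
      have h4 : f z = 1 := by
        have h5 : (MulAut.conjNormal g : MulAut C) z =
            ⟨g * pd z * g⁻¹, h.DC (h.Dn.conj_mem _ (h.pd_mem z) g)⟩ * ⟨_, h.ZC hz⟩ := by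
          apply Subtype.ext
          change g * z * g⁻¹ = g * pd z * g⁻¹ * ((pd z)⁻¹ * z)
          rw [mul_assoc (g * pd z), Subgroup.mem_center_iff.1 (h.cen hz)]
          group
        change pr ((MulAut.conjNormal g : MulAut C) z) = 1
        rw [h5, map_mul, h.pr_D (h.Dn.conj_mem _ (h.pd_mem z) g), h.pr_Z hz, mul_one]
      rw [Function.comp, Function.comp, h4, map_one])
    have h4 : (⟨χ', h2⟩ : IrrCharacter A6) = θ := by
      apply hθ.uniq'
      have h5 := h3 1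
      rw [Function.comp, map_one, map_one, hθ.deg] at h5
      rw [charDegree_of_eq h5.symm]
      norm_num
    rw [← h4]
    have h5 := h3 n
    rw [← h4] at h5
    exact h5
  have hdet : ∀ n : C, (1 : Γ → ℂ) n = detChar ((θ : A6 → ℂ) ∘ pr) n := by
    intro n
    obtain ⟨k, ρ, hρ, e⟩ := θ.2
    rw [CharDeep.IrrEquiv.detChar_apply (ρ.comp pr) (isIrreducible_of_isIrrCharacter _ (by rw [← e] at h1; exact h1))
      (by rw [← e]; rfl) (isIrr_isCharacter h1) n]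
    change _ = LinearMap.det (ρ (pr n))
    rw [← CharDeep.IrrEquiv.detHom_apply, hom_A6 (CharDeep.IrrEquiv.detHom ρ)]
    rfl
  obtain ⟨χ, hχ, e⟩ := (Cfsg.Agent.S0866.result C _ h1 hinv 9 (by
      rw [Function.comp, map_one, hθ.deg]) (by
      rw [show (9 : ℕ) = 3 ^ 2 by norm_num]
      exact Nat.Coprime.pow_right 2 ((Nat.Prime.coprime_iff_not_dvd Nat.prime_three).2 h.not_dvd).symm)).2
    ⟨1, isCharacter_one, rfl, hdet⟩
  refine ⟨⟨_, CharactersDeep.ExtUnique.isIrr_mul_hom hχ lam⟩, ⟨fun c => ?_⟩⟩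
  change χ c * lam c = _
  rw [e, mul_comm]
  rfl

variable {lam : Γ →* ℂˣ} {τ : IrrCharacter Γ}

theorem LN.tau_mul (h : LN H D Z C pr pd) (hτ : Tau pr lam θ τ) {x y : Γ} (hx : x ∈ D) (hy : y ∈ C) :
    (τ : Γ → ℂ) (x * y) = (τ : Γ → ℂ) y := by
  have h1 := hτ.eq (⟨x, h.DC hx⟩ * ⟨y, hy⟩)
  have h2 := hτ.eq ⟨y, hy⟩
  rw [map_mul pr, h.pr_D hx, one_mul] at h1
  change (τ : Γ → ℂ) (x * y) = lam (x * y) * _ at h1
  rw [h1, map_mul, h.lam_D lam hx, one_mul]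
  exact h2.symm

theorem LN.tau_one (hθ : IsSt M θ) (hτ : Tau pr lam θ τ) : (τ : Γ → ℂ) 1 = 9 := by
  have h1 := hτ.eq 1
  rw [OneMemClass.coe_one, map_one, map_one, hθ.deg] at h1
  rw [h1]
  norm_num

theorem LN.tau_irr (h : LN H D Z C pr pd) (hτ : Tau pr lam θ τ) : IsIrrCharacter C fun c : C => (τ : Γ → ℂ) c := by
  have h1 := CharactersDeep.ExtUnique.isIrr_mul_hom (isIrr_comp pr h.surj θ.2) (lam.comp C.subtype)
  convert h1 using 2 with c
  rw [hτ.eq, mul_comm]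
  rfl

theorem LN.decomp (h : LN H D Z C pr pd) {g : Γ} (hg : InT 3 D g) (hH : g ∈ H) :
    ∃ x ∈ D, x ≠ 1 ∧ ∃ y ∈ C, IsPRegular 3 y ∧ g = x * y := by
  obtain ⟨x, ⟨y, rfl, hc, -, hy⟩, hx, hx1⟩ := hg
  refine ⟨x, hx, hx1, y, h.cent x hx hx1 y ?_ hc.eq.symm, hy, rfl⟩
  exact (H.mul_mem_cancel_left (h.CH (h.DC hx))).1 hH

theorem LN.mem_C (h : LN H D Z C pr pd) {g : Γ} (hg : InT 3 D g) (hH : g ∈ H) : g ∈ C := by
  obtain ⟨x, hx, -, y, hy, -, rfl⟩ := h.decomp hg hH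
  exact C.mul_mem (h.DC hx) hy

/-- `φ` is a multiple of `τ` on the section -/
def Sec (H D : Subgroup Γ) (τ φ : Γ → ℂ) (c : ℂ) : Prop := ∀ g, InT 3 D g → g ∈ H → φ g = c * τ g

variable {b : Set (IrrCharacter Γ)}

theorem LN.three_dvd (h : LN H D Z C pr pd) (hM : IsPModular 3 M) (hb : IsPBlock M b) (hD : IsDefectGroup 3 M b D)
    {ψ : IrrCharacter Γ} (hψ : ψ ∈ b) : 3 ∣ charDegree (ψ : Γ → ℂ) := by
  have h1 := defect_of_card hM hb hD (a := 2) h.card
  have h2 := fact_degree (p := 3) hψ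
  have h3 : 3 ≤ (Nat.card Γ).factorization 3 :=
    (Nat.prime_three.pow_dvd_iff_le_factorization Nat.card_pos.ne').1 h.dvd_card
  exact (Nat.prime_three.dvd_iff_one_le_factorization (charDegree_pos ψ.2).ne').2 (by omega)

/-- the constituents on `C` have degrees divisible by three -/
theorem LN.three_dvd' (h : LN H D Z C pr pd) [Fintype C] {ψ : Γ → ℂ} (hψ : IsIrrCharacter Γ ψ) (h3 : 3 ∣ charDegree ψ)
    {η : C → ℂ} (hη : IsIrrCharacter C η) (h0 : classInner (fun c : C => ψ c) η ≠ 0) : 3 ∣ charDegree η := by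
  have hCn := h.Cn
  obtain ⟨⟨c, hc⟩, h2⟩ := H672.charDegree_dvd_of_over C hψ hη ((H672.over_iff _ _ _).2 h0)
  rw [hc, Nat.mul_div_cancel_left c (charDegree_pos hη)] at h2
  rw [hc] at h3
  exact ((Nat.Prime.dvd_mul Nat.prime_three).1 h3).resolve_right fun h4 => h.not_dvd (h4.trans h2)

theorem LN.sec_irr (h : LN H D Z C pr pd) (hθ : IsSt M θ) (hτ : Tau pr lam θ τ) {ψ : Γ → ℂ} (hψ : IsIrrCharacter Γ ψ)
    (h3 : 3 ∣ charDegree ψ) (hl : ∀ z ∈ Z, ψ z = lam z * ψ 1) {x₀ : Γ} (hx₀ : x₀ ∈ D) (hx₁ : x₀ ≠ 1) :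
    Sec H D (τ : Γ → ℂ) ψ (ψ x₀ / 9) := by
  classical
  intro g hg hH
  obtain ⟨x, hx, hx1, y, hy, hr, rfl⟩ := h.decomp hg hH
  have := Fintype.ofFinite C
  have := finite_irr (G := C)
  have := Fintype.ofFinite (IrrCharacter C)
  have hcl : IsClassFunction C (fun c : C => ψ c) := fun g c => irr_isClassFunction hψ g c
  have h1 := congrFun (classFunction_eq_sum hcl) (⟨x, h.DC hx⟩ * ⟨y, hy⟩)
  have h2 := congrFun (classFunction_eq_sum hcl) ⟨x, h.DC hx⟩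
  rw [Finset.sum_apply] at h1 h2
  change ψ (x * y) = _ at h1
  change ψ x = _ at h2
  obtain ⟨n, -, e⟩ := h.trans x₀ hx₀ hx₁ x hx hx1
  have h4 : ψ x₀ = ψ x := by rw [← e, irr_conj hψ]
  have h5 : 9 * ψ (x * y) = ψ x * (τ : Γ → ℂ) y := by
    rw [h1, h2, Finset.mul_sum, Finset.sum_mul]
    refine Finset.sum_congr rfl fun η _ => ?_
    rw [Pi.smul_apply, Pi.smul_apply, smul_eq_mul, smul_eq_mul]
    by_cases h0 : classInner (fun c : C => ψ c) (η : C → ℂ) = 0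
    · rw [h0]
      ring
    · have h6 := h.val_of_dvd hθ (lam.comp C.subtype) η.2 (fun z hz =>
        scalar_of_inner η.2 (Subgroup.mem_center_iff.2 fun g =>
          Subtype.ext (Subgroup.mem_center_iff.1 (h.cen hz) g))
          (fun g => scalar_of hψ (h.cen hz) (hl z hz) g) h0) (h.three_dvd' hψ h3 η.2 h0)
        (x := ⟨x, h.DC hx⟩) (y := ⟨y, hy⟩) hx hr
      rw [mul_left_comm, h6, hτ.eq ⟨y, hy⟩, mul_assoc]
      rfl
  rw [h.tau_mul hτ hx hy, h4]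
  linear_combination h5 / 9

theorem LN.sec_span (h : LN H D Z C pr pd) (hM : IsPModular 3 M) (hb : IsPBlock M b) (hD : IsDefectGroup 3 M b D)
    (hθ : IsSt M θ) (hτ : Tau pr lam θ τ) (hl : ∀ ψ ∈ b, ∀ z ∈ Z, (ψ : Γ → ℂ) z = lam z * (ψ : Γ → ℂ) 1)
    {x₀ : Γ} (hx₀ : x₀ ∈ D) (hx₁ : x₀ ≠ 1) {φ : Γ → ℂ} (hφ : φ ∈ charSpan b) :
    Sec H D (τ : Γ → ℂ) φ (φ x₀ / 9) := by
  unfold charSpan at hφ
  induction hφ using Submodule.span_induction with
  | mem x hx =>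
    obtain ⟨ψ, hψ, rfl⟩ := hx
    exact h.sec_irr hθ hτ ψ.2 (h.three_dvd hM hb hD hψ) (hl ψ hψ) hx₀ hx₁
  | zero =>
    intro g _ _
    simp
  | add x y _ _ h1 h2 =>
    intro g hg hH
    rw [Pi.add_apply, Pi.add_apply, h1 g hg hH, h2 g hg hH]
    ring
  | smul a x _ h1 =>
    intro g hg hH
    rw [Pi.smul_apply, Pi.smul_apply, h1 g hg hH, smul_eq_mul, smul_eq_mul]
    ring

open Classical in
/-- the function `W` -/
noncomputable def VV (H D : Subgroup Γ) (τ : Γ → ℂ) : Γ → ℂ := fun g => if InT 3 D g then τ g * Ej H g else 0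

theorem VV_of {τ : Γ → ℂ} {g : Γ} (h : InT 3 D g) : VV H D τ g = τ g * Ej H g := if_pos h

theorem VV_of_not {τ : Γ → ℂ} {g : Γ} (h : ¬ InT 3 D g) : VV H D τ g = 0 := if_neg h

theorem LN.norm_VV (h : LN H D Z C pr pd) (hθ : IsSt M θ) (hτ : Tau pr lam θ τ) :
    9 * classInner (VV H D (τ : Γ → ℂ)) (τ : Γ → ℂ) = 1 := by
  classical
  have := Fintype.ofFinite C
  have := Fintype.ofFinite D
  let T : C → ℂ := fun c => (τ : Γ → ℂ) c * conj ((τ : Γ → ℂ) c)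
  have h1 : ∑ g, VV H D (τ : Γ → ℂ) g * conj ((τ : Γ → ℂ) g) = H.index * ∑ c : C with pd c ≠ 1, T c := by
    rw [← Finset.sum_subset (Finset.subset_univ (Finset.univ.filter (· ∈ C))),
      Finset.sum_subtype (p := (· ∈ C)) _ (by simp), Finset.sum_filter, Finset.mul_sum]
    · refine Finset.sum_congr rfl fun c _ => ?_
      by_cases h2 : InT 3 D (c : Γ)
      · obtain ⟨x, hx, hx1, y, hy, hr, e⟩ := h.decomp h2 (h.CH c.2)
        have h3 : pd c = x := by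
          have h4 : c = ⟨x, h.DC hx⟩ * ⟨y, hy⟩ := Subtype.ext e
          rw [h4, map_mul, h.pd_eq _ hx, h.pd_reg hr, mul_one]
        rw [VV_of h2, Ej_of_mem (h.CH c.2), if_pos (by rw [h3]; exact hx1)]
        ring
      · rw [VV_of_not h2, zero_mul]
        split_ifs with h3
        · have h4 : (τ : Γ → ℂ) c = 0 := by
            rw [hτ.eq, hθ.van, mul_zero]
            intro h5
            apply h2
            have h6 : pd ((h.pc c : C)⁻¹ * c) = 1 := by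
              rw [map_mul, map_inv, h.pd_eq _ (h.pd_mem c), h.pc_coe, inv_mul_cancel]
            have h7 := h.reg_of h6 (by rwa [map_mul, map_inv, h.pr_D (h.pd_mem c), inv_one, one_mul])
            refine ⟨pd c, ⟨_, mul_inv_cancel_left _ _, ?_, h.order (h.pd_mem c), h7⟩, h.pd_mem c, h3⟩
            exact (h.comm _ ((h.pc c : C)⁻¹ * c).2 _ (h.pd_mem c)).symm
          change 0 = _ * ((τ : Γ → ℂ) c * _)
          rw [h4, zero_mul, mul_zero]
        · rw [mul_zero]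
    · intro g _ hg
      have h2 : g ∉ C := by simpa using hg
      by_cases h3 : InT 3 D g
      · rw [VV_of h3, Ej_of_not fun h4 => h2 (h.mem_C h3 h4), mul_zero, zero_mul]
      · rw [VV_of_not h3, zero_mul]
  have h2 : ∑ c : C, T c = Nat.card C := by
    have h3 := classInner_irr_self (h.tau_irr hτ)
    rw [Characters.Core.classInner_def] at h3
    have h4 : (Nat.card C : ℂ) ≠ 0 := Nat.cast_ne_zero.2 Nat.card_pos.ne'
    field_simp at h3
    exact h3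
  have h3 : ∑ c : C, T c = 9 * ∑ c : C with pd c = 1, T c := by
    let f : C → D := fun c => ⟨pd c, h.pd_mem c⟩
    rw [← Finset.sum_fiberwise Finset.univ f, Finset.sum_congr rfl (g := fun _ => ∑ c : C with pd c = 1, T c),
      Finset.sum_const, Finset.card_univ, ← Nat.card_eq_fintype_card, h.card, nsmul_eq_mul, Nat.cast_ofNat]
    intro x _
    symm
    refine Finset.sum_bijective (fun c => ⟨x, h.DC x.2⟩ * c) (Group.mulLeft_bijective _) (fun c => ?_) fun c _ => ?_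
    · simp only [Finset.mem_filter, Finset.mem_univ, true_and, f, Subtype.ext_iff]
      rw [map_mul, h.pd_eq ⟨x, h.DC x.2⟩ x.2, mul_eq_left]
    · change _ = (τ : Γ → ℂ) (x * c) * conj ((τ : Γ → ℂ) (x * c))
      rw [h.tau_mul hτ x.2 c.2]
  have h4 := Finset.sum_filter_add_sum_filter_not Finset.univ (fun c : C => pd c = 1) T
  have h5 : (Nat.card Γ : ℂ) = Nat.card C * (8 * H.index) := by
    rw [← C.card_mul_index, h.index]
    push_cast
    rfl
  have h6 : (Nat.card C : ℂ) ≠ 0 := Nat.cast_ne_zero.2 Nat.card_pos.ne'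
  have h7 : (H.index : ℂ) ≠ 0 := Nat.cast_ne_zero.2 Subgroup.index_ne_zero_of_finite
  rw [Characters.Core.classInner_def, h1, h5]
  field_simp
  linear_combination 9 * h4 + h3 + 8 * h2

theorem inner_VV_of_sec {τ φ : Γ → ℂ} {c : ℂ} (hs : Sec H D τ φ c) :
    classInner (VV H D τ) φ = conj c * classInner (VV H D τ) τ := by
  rw [← classInner_smul_right, Characters.Core.classInner_def, Characters.Core.classInner_def]
  congr 1
  refine Finset.sum_congr rfl fun g _ => ?_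
  by_cases h1 : InT 3 D g
  · by_cases h2 : g ∈ H
    · rw [hs g h1 h2, Pi.smul_apply, smul_eq_mul]
    · rw [VV_of h1, Ej_of_not h2, mul_zero, zero_mul, zero_mul]
  · rw [VV_of_not h1, zero_mul, zero_mul]

theorem LN.inner_VV (h : LN H D Z C pr pd) (hθ : IsSt M θ) (hτ : Tau pr lam θ τ) {φ : Γ → ℂ} {d : ℤ}
    (hs : Sec H D (τ : Γ → ℂ) φ d) : 9 * classInner (VV H D (τ : Γ → ℂ)) φ = d := by
  rw [inner_VV_of_sec hs, map_intCast, mul_left_comm, h.norm_VV hθ hτ, mul_one]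

theorem LN.mul_E (h : LN H D Z C pr pd) (hM : IsPModular 3 M) (hb : IsPBlock M b) (hD : IsDefectGroup 3 M b D)
    {τ φ : Γ → ℂ} (hφ : φ ∈ charSpan b) {c : ℂ} (hs : Sec H D τ φ c) : sg 3 φ * Ej H = c • VV H D τ := by
  funext g
  rw [Pi.mul_apply, Pi.smul_apply, smul_eq_mul]
  by_cases h1 : InT 3 D g
  · rw [VV_of h1, H608.TI.sg_of_not h1.not_reg]
    by_cases h2 : g ∈ H
    · rw [hs g h1 h2, mul_assoc]
    · rw [Ej_of_not h2, mul_zero, mul_zero, mul_zero]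
  · rw [VV_of_not h1, mul_zero]
    by_cases h2 : IsPRegular 3 g
    · rw [H608.TI.sg_of_reg h2, zero_mul]
    · rw [H608.TI.sg_of_not h2, vanish_G hM hb hD hφ h2, zero_mul]
      intro c hc
      have := h.Dn
      have h3 := hc.conj (c := c) (by rw [Nm, Subgroup.normalizer_eq_top_iff.2 h.Dn]; trivial)
      rw [show c * (c⁻¹ * g * c) * c⁻¹ = g by group] at h3
      exact h1 h3

theorem LN.int (h : LN H D Z C pr pd) (hM : IsPModular 3 M) (hb : IsPBlock M b) (hD : IsDefectGroup 3 M b D)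
    (hθ : IsSt M θ) (hτ : Tau pr lam θ τ) (hl : ∀ ψ ∈ b, ∀ z ∈ Z, (ψ : Γ → ℂ) z = lam z * (ψ : Γ → ℂ) 1)
    {x₀ : Γ} (hx₀ : x₀ ∈ D) (hx₁ : x₀ ≠ 1) {ψ : IrrCharacter Γ} (hψ : ψ ∈ b) :
    ∃ d : ℤ, (ψ : Γ → ℂ) x₀ / 9 = d := by
  obtain ⟨n, hn⟩ := (base_of_block hM hb (defect_of_card hM hb hD h.card)).int_E h.idx hψ τ
  rw [h.mul_E hM hb hD (mem_span_of_mem hψ) (h.sec_span hM hb hD hθ hτ hl hx₀ hx₁ (mem_span_of_mem hψ)),
    classInner_smul_left, mul_left_comm, h.norm_VV hθ hτ, mul_one] at hn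
  exact ⟨n, hn⟩

theorem LN.wd (h : LN H D Z C pr pd) (hM : IsPModular 3 M) (hb : IsPBlock M b) (hD : IsDefectGroup 3 M b D)
    (hθ : IsSt M θ) (hτ : Tau pr lam θ τ) (hl : ∀ ψ ∈ b, ∀ z ∈ Z, (ψ : Γ → ℂ) z = lam z * (ψ : Γ → ℂ) 1) :
    Wd b (Ej H) (VV H D (τ : Γ → ℂ)) := by
  have hMp := isPrime_of_isPModular hM
  obtain ⟨x, hx, hx1⟩ := h.exists_ne
  have key : ∀ ψ ∈ b, ∃ d : ℤ, (ψ : Γ → ℂ) x / 9 = d ∧ Sec H D (τ : Γ → ℂ) (ψ : Γ → ℂ) d := by
    intro ψ hψ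
    obtain ⟨d, hd⟩ := h.int hM hb hD hθ hτ hl hx hx1 hψ
    exact ⟨d, hd, hd ▸ h.sec_span hM hb hD hθ hτ hl hx hx1 (mem_span_of_mem hψ)⟩
  constructor
  · intro ψ hψ
    obtain ⟨d, -, hs⟩ := key ψ hψ
    exact ⟨d, h.mul_E hM hb hD (mem_span_of_mem hψ) hs, h.inner_VV hθ hτ hs⟩
  · have := h.Dn
    obtain ⟨χ, hχ⟩ := isPBlock_nonempty hb
    obtain ⟨ξ, hξ⟩ := Blocks.PRegular.exists_inflation_sameBlock hM D (isPGroup_of_isDefectGroup hD) χ.2
    let ψ : IrrCharacter Γ := ⟨_, isIrr_comp (QuotientGroup.mk' D) (QuotientGroup.mk'_surjective D) ξ.2⟩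
    have hψ : ψ ∈ b := isPBlock_mem_of_sameBlock hb hχ hξ
    obtain ⟨d, hd, hs⟩ := key ψ hψ
    refine ⟨ψ, hψ, fun e => ?_⟩
    have h1 := h.inner_VV hθ hτ hs
    rw [e, mul_zero, ← hd] at h1
    have h2 : (ψ : Γ → ℂ) x = (ψ : Γ → ℂ) 1 := by
      change (ξ : Γ ⧸ D → ℂ) (QuotientGroup.mk' D x) = (ξ : Γ ⧸ D → ℂ) (QuotientGroup.mk' D 1)
      rw [map_one, QuotientGroup.mk'_apply, (QuotientGroup.eq_one_iff x).2 hx]
    apply irr_one_ne_zero ψ.2
    rw [← h2]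
    linear_combination -9 * h1

section quot

variable [C.Normal]

theorem LN.inner_mul (h : LN H D Z C pr pd) (hτ : Tau pr lam θ τ) [Fintype (Γ ⧸ C)] (β β' : Γ ⧸ C → ℂ) :
    classInner (fun g => (τ : Γ → ℂ) g * β (QuotientGroup.mk' C g)) (fun g => (τ : Γ → ℂ) g * β' (QuotientGroup.mk' C g)) =
      classInner β β' := by
  have := Fintype.ofFinite (QuotientGroup.mk' C).ker
  refine H596.CoverCor.classInner_mul (QuotientGroup.mk'_surjective C) τ.2 ?_ β β'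
  rw [QuotientGroup.ker_mk']
  exact h.tau_irr hτ

theorem LN.gall (h : LN H D Z C pr pd) (hθ : IsSt M θ) (hτ : Tau pr lam θ τ) {β : Γ ⧸ C → ℂ}
    (hβ : IsIrrCharacter (Γ ⧸ C) β) {m : ℕ} (hm : β 1 = m) : ∃ χ : IrrCharacter Γ,
      ((χ : Γ → ℂ) = fun g => (τ : Γ → ℂ) g * β (QuotientGroup.mk' C g)) ∧
      9 * classInner (VV H D (τ : Γ → ℂ)) (χ : Γ → ℂ) = (m : ℤ) ∧ (χ : Γ → ℂ) 1 = (9 * m : ℕ) := by
  have := Fintype.ofFinite (Γ ⧸ C)
  have h1 : IsIrrCharacter Γ fun g => (τ : Γ → ℂ) g * β (QuotientGroup.mk' C g) :=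
    isIrr_of_classInner_self (isCharacter_mul (isIrr_isCharacter τ.2)
      (isCharacter_comp (QuotientGroup.mk' C) (isIrr_isCharacter hβ))) (by
        rw [h.inner_mul hτ, classInner_irr_self hβ])
  refine ⟨⟨_, h1⟩, rfl, h.inner_VV hθ hτ fun g hg hH => ?_, ?_⟩
  · change (τ : Γ → ℂ) g * β (QuotientGroup.mk' C g) = _
    rw [QuotientGroup.mk'_apply, (QuotientGroup.eq_one_iff g).2 (h.mem_C hg hH), hm, mul_comm]
    rfl
  · change (τ : Γ → ℂ) 1 * β (QuotientGroup.mk' C 1) = _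
    rw [map_one, hm, LN.tau_one hθ hτ]
    push_cast
    rfl

theorem LN.exists_two (h : LN H D Z C pr pd) :
    ∃ β : H.map (QuotientGroup.mk' C) → ℂ, IsIrrCharacter _ β ∧ β 1 = (2 : ℕ) := by
  obtain ⟨a, ha, c, hc, e⟩ := h.nonab
  obtain ⟨β, hβ, h1⟩ := H669.Basic.exists_nonlinear (G := H.map (QuotientGroup.mk' C))
    ⟨⟨_, a, ha, rfl⟩, ⟨_, c, hc, rfl⟩, fun e' => e (by
      have e1 : QuotientGroup.mk' C a * QuotientGroup.mk' C c = QuotientGroup.mk' C c * QuotientGroup.mk' C a :=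
        congrArg Subtype.val e'
      rw [← QuotientGroup.eq_one_iff, ← QuotientGroup.mk'_apply, map_mul, map_mul, map_mul, map_inv, map_inv, e1]
      group)⟩
  have h2 : Nat.card (H.map (QuotientGroup.mk' C)) = 8 := by
    rw [← Subgroup.relIndex_ker, QuotientGroup.ker_mk', h.relIndex]
  have h3 := (H678.Codeg.sq_charDegree_le_index_center ⟨β, hβ⟩).trans
    (Nat.le_of_dvd Nat.card_pos (Subgroup.index_dvd_card _))
  rw [h2] at h3
  have h4 := charDegree_pos hβ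
  have h5 : charDegree β = 2 := by
    change charDegree β ^ 2 ≤ 8 at h3
    have : charDegree β < 3 := by nlinarith
    omega
  exact ⟨β, hβ, by rw [irr_one_eq_charDegree hβ, h5]⟩

theorem LN.lift_of (h : LN H D Z C pr pd) (hθ : IsSt M θ) (hτ : Tau pr lam θ τ) (hH : H.index = 2)
    {β : H.map (QuotientGroup.mk' C) → ℂ} (hβ : IsIrrCharacter _ β) {m : ℕ} (hm : β 1 = m) :
    Lift hH (VV H D (τ : Γ → ℂ)) m (9 * m) := by
  have := Fintype.ofFinite (Γ ⧸ C)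
  have hk : (QuotientGroup.mk' C).ker ≤ H := by
    rw [QuotientGroup.ker_mk']
    exact h.CH
  have hQ : (H.map (QuotientGroup.mk' C)).index = 2 := by
    rw [Subgroup.index_map_eq _ (QuotientGroup.mk'_surjective C) hk, hH]
  have := Subgroup.normal_of_index_eq_two hQ
  have hmem : ∀ g, QuotientGroup.mk' C g ∈ H.map (QuotientGroup.mk' C) ↔ g ∈ H := fun g => by
    rw [← Subgroup.mem_comap, Subgroup.comap_map_eq_self hk]
  have hep : ∀ g, ep hH g = ep hQ (QuotientGroup.mk' C g) := by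
    intro g
    by_cases hg : g ∈ H
    · rw [ep, ep, HKS.CosetTwo.sg_of_mem hH hg, HKS.CosetTwo.sg_of_mem hQ ((hmem g).2 hg)]
    · rw [ep, ep, HKS.CosetTwo.sg_of_notMem hH hg, HKS.CosetTwo.sg_of_notMem hQ fun e => hg ((hmem g).1 e)]
  rcases H348.PPD.Dich.dich _ hQ hβ with ⟨γ, hγ, e⟩ | ⟨γ, hγ, e0, e⟩
  · obtain ⟨χ, h1, h2, h3⟩ := h.gall hθ hτ hγ (m := m) (by rw [← hm, ← e 1]; rfl)
    refine ⟨χ, Or.inl ⟨fun e1 => ?_, h2, h3⟩⟩
    have h4 : tw hQ ⟨γ, hγ⟩ ≠ ⟨γ, hγ⟩ := tw_ne_of_ext hQ (by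
      have e2 : (fun n : H.map (QuotientGroup.mk' C) => γ n) = β := funext e
      exact e2 ▸ hβ)
    have h5 := h.inner_mul hτ (γ * ep hQ) γ
    have h7 : classInner (γ * ep hQ) γ = 0 := classInner_irr_ne (tw hQ ⟨γ, hγ⟩).2 hγ fun e2 => h4 (Subtype.ext e2)
    rw [h7, ← h1] at h5
    have h6 : (fun g => (τ : Γ → ℂ) g * (γ * ep hQ) (QuotientGroup.mk' C g)) = (tw hH χ : Γ → ℂ) := by
      funext g
      rw [tw_coe, h1, Pi.mul_apply, Pi.mul_apply, hep, mul_assoc]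
    rw [h6, e1, classInner_irr_self χ.2] at h5
    exact one_ne_zero h5
  · obtain ⟨t, ht⟩ : ∃ t, t ∉ H.map (QuotientGroup.mk' C) := by
      by_contra e1
      push Not at e1
      rw [(Subgroup.eq_top_iff' _).2 e1, Subgroup.index_top] at hQ
      omega
    obtain ⟨χ, h1, h2, h3⟩ := h.gall hθ hτ hγ (m := 2 * m) (by
      have e1 := (e t ht).1 1
      rw [map_one, hm] at e1
      rw [← OneMemClass.coe_one (H.map (QuotientGroup.mk' C)), e1]
      push_cast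
      ring)
    refine ⟨χ, Or.inr ⟨tw_eq_of_van hH fun g hg => ?_, by rw [h2]; push_cast; rfl, by rw [h3]; push_cast; ring⟩⟩
    rw [h1]
    change _ * γ _ = 0
    rw [e0 _ fun e1 => hg ((hmem g).1 e1), mul_zero]

end quot

theorem LN.lift (h : LN H D Z C pr pd) (hθ : IsSt M θ) (hτ : Tau pr lam θ τ) (hH : H.index = 2) :
    Lift hH (VV H D (τ : Γ → ℂ)) 1 9 ∧ Lift hH (VV H D (τ : Γ → ℂ)) 2 18 := by
  have := h.Cn
  obtain ⟨β, hβ, e⟩ := h.exists_two
  exact ⟨h.lift_of hθ hτ hH isIrrCharacter_one (m := 1) (by simp), h.lift_of hθ hτ hH hβ e⟩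

theorem LN.one (h : LN H D Z C pr pd) (hθ : IsSt M θ) (hτ : Tau pr lam θ τ) (hH : H.index = 1) :
    (∃ χ : IrrCharacter Γ, 9 * classInner (VV H D (τ : Γ → ℂ)) (χ : Γ → ℂ) = (1 : ℤ) ∧ (χ : Γ → ℂ) 1 = (9 : ℕ)) ∧
    ∃ χ : IrrCharacter Γ, 9 * classInner (VV H D (τ : Γ → ℂ)) (χ : Γ → ℂ) = (2 : ℤ) ∧ (χ : Γ → ℂ) 1 = (18 : ℕ) := by
  have := h.Cn
  obtain ⟨β, hβ, e⟩ := h.exists_two
  obtain ⟨χ, -, h1, h2⟩ := h.gall hθ hτ isIrrCharacter_one (m := 1) (by simp)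
  have h3 : ∀ q, q ∈ H.map (QuotientGroup.mk' C) := by
    intro q
    obtain ⟨g, rfl⟩ := QuotientGroup.mk'_surjective C q
    exact ⟨g, by rw [Subgroup.index_eq_one.1 hH]; trivial, rfl⟩
  let f : (Γ ⧸ C) →* H.map (QuotientGroup.mk' C) := (MonoidHom.id _).codRestrict _ h3
  obtain ⟨χ', -, h4, h5⟩ := h.gall hθ hτ (isIrr_comp f (fun q => ⟨q, rfl⟩) hβ) (m := 2)
    (by rw [Function.comp, map_one, e])
  exact ⟨⟨χ, h1, h2⟩, χ', h4, h5⟩

theorem ineq_N : Ineq Γ 1 2 9 18 := by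
  intro f _ e
  omega

end Cfsg.Agent.TID.N9
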