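import Mathlib
import Cfsg.Agent.TID.N9.Nrm
import Cfsg.Agent.S0934

/-!
# S4622, defect group of order nine: the group `G` (helper27)

`LG H D Z C pr pd`: the local structure in `G`; `LG.card_eq`: `k(B) = k(b)`.
-/

set_option autoImplicit false
set_option linter.unusedSectionVars false

namespace Cfsg.Agent.TID.N9

open Cfsg Cfsg.Agent.H608.BlockRank Cfsg.Agent.Blocks.Basic Cfsg.Agent.Blocks.Local Cfsg.Agent.TID.Blk
  Cfsg.Agent.Characters.Core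
open Cfsg.Agent.H608.TI (sg inner_zero IsTI)
open scoped ComplexConjugate

universe u

attribute [local instance] factThree

variable {G : Type u} [Group G] [Fintype G]

/-- the local structure in `G` -/
structure LG (H D Z C : Subgroup G) (pr : C →* A6) (pd : C →* G) : Prop extends LC D Z C pr pd where
  Hn : H.Normal
  CH : C ≤ H
  idx : H.index ∣ 2
  cent : ∀ x ∈ D, x ≠ 1 → ∀ g ∈ H, g * x = x * g → g ∈ C
  trans : ∀ x ∈ D, x ≠ 1 → ∀ y ∈ D, y ≠ 1 → ∃ n ∈ Nm D, n ∈ H ∧ n * x * n⁻¹ = y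
  nonab : ∃ a ∈ Nm D, ∃ b ∈ Nm D, a ∈ H ∧ b ∈ H ∧ a * b * a⁻¹ * b⁻¹ ∉ C
  fr : ∀ g : G, ∃ h ∈ H, h * g ∈ Nm D

variable {H D Z C : Subgroup G} {pr : C →* A6} {pd : C →* G} {M : Ideal AlgInt} {θ : IrrCharacter A6}

theorem LC.CN (h : LC D Z C pr pd) : C ≤ Nm D := fun c hc =>
  Subgroup.centralizer_le_normalizer _ (Subgroup.mem_centralizer_iff.2 fun x hx => (h.comm c hc x hx).symm)

/-- the identification of the two copies of `C` -/
def LC.io (h : LC D Z C pr pd) : C.subgroupOf (Nm D) →* C := (Subgroup.subgroupOfEquivOfLe h.CN).toMonoidHom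

theorem LC.io_coe (h : LC D Z C pr pd) (c : C.subgroupOf (Nm D)) : (h.io c : G) = (c : Nm D) := rfl

/-- the retraction in the normalizer -/
def LC.pdN (h : LC D Z C pr pd) : C.subgroupOf (Nm D) →* Nm D :=
  (pd.comp h.io).codRestrict _ fun _ => Subgroup.le_normalizer (h.pd_mem _)

theorem LG.index (h : LG H D Z C pr pd) : (H.subgroupOf (Nm D)).index = H.index := by
  have := h.Hn
  have h1 : Nm D ⊔ H = ⊤ := by
    rw [eq_top_iff]
    intro g _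
    obtain ⟨k, hk, e⟩ := h.fr g
    have h2 : g = k⁻¹ * (k * g) := by group
    rw [h2]
    exact Subgroup.mul_mem _ (Subgroup.mem_sup_right (H.inv_mem hk)) (Subgroup.mem_sup_left e)
  rw [← Subgroup.relIndex, ← Subgroup.relIndex_sup_right, h1, Subgroup.relIndex_top_right]

theorem LG.toN (h : LG H D Z C pr pd) [Fintype (Nm D)] : LN (H.subgroupOf (Nm D)) (D.subgroupOf (Nm D))
    (Z.subgroupOf (Nm D)) (C.subgroupOf (Nm D)) (pr.comp h.io) h.pdN where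
  card := by rw [Nat.card_congr (Subgroup.subgroupOfEquivOfLe Subgroup.le_normalizer).toEquiv, h.card]
  DC := fun _ hx => h.DC hx
  ZC := fun _ hx => h.ZC hx
  comm := fun c hc x hx => Subtype.ext (h.comm c hc x hx)
  cen := fun z hz => Subgroup.mem_center_iff.2 fun g => Subtype.ext (Subgroup.mem_center_iff.1 (h.cen hz) g)
  reg := fun z hz => (H608.TI.reg_coe z).1 (h.reg z hz)
  surj := h.surj.comp (Subgroup.subgroupOfEquivOfLe h.CN).surjective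
  ker := fun c => h.ker (h.io c)
  pd_mem := fun c => h.pd_mem (h.io c)
  pd_eq := fun c hc => Subtype.ext (h.pd_eq (h.io c) hc)
  Hn := h.Hn.subgroupOf _
  Dn := Subgroup.normal_in_normalizer
  CH := fun _ hx => h.CH hx
  idx := h.index ▸ h.idx
  cent := fun x hx hx1 g hg e => h.cent x hx (fun e' => hx1 (Subtype.ext e')) g hg (congrArg Subtype.val e)
  trans := fun x hx hx1 y hy hy1 => by
    obtain ⟨n, h1, h2, e⟩ := h.trans x hx (fun e' => hx1 (Subtype.ext e')) y hy fun e' => hy1 (Subtype.ext e')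
    exact ⟨⟨n, h1⟩, h2, Subtype.ext e⟩
  nonab := by
    obtain ⟨a, ha, c, hc, h1, h2, e⟩ := h.nonab
    exact ⟨⟨a, ha⟩, h1, ⟨c, hc⟩, h2, e⟩

theorem Ej_class (hn : H.Normal) : IsClassFunction G (Ej H) := by
  intro g c
  by_cases hg : g ∈ H
  · rw [Ej_of_mem hg, Ej_of_mem (hn.conj_mem g hg c)]
  · rw [Ej_of_not hg, Ej_of_not fun e => hg (by simpa [mul_assoc] using hn.conj_mem _ e c⁻¹)]

theorem LG.Ej_eq (h : LG H D Z C pr pd) [Fintype (Nm D)] (n : Nm D) : Ej (H.subgroupOf (Nm D)) n = Ej H n := by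
  by_cases hn : (n : G) ∈ H
  · rw [Ej_of_mem hn, Ej_of_mem (H := H.subgroupOf (Nm D)) hn, h.index]
  · rw [Ej_of_not hn, Ej_of_not (H := H.subgroupOf (Nm D)) hn]

variable {B : Set (IrrCharacter G)} {b : Set (IrrCharacter (Nm D))} [Fintype (Nm D)]

/-- the block theoretic data -/
structure BD (M : Ideal AlgInt) (B : Set (IrrCharacter G)) (D : Subgroup G) (b : Set (IrrCharacter (Nm D))) : Prop where
  hM : IsPModular 3 M
  hD : IsDefectGroup 3 M B D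
  ti : IsTI D
  hb : IsInducedBlock M (Nm D) b B

theorem BD.two_ind (h : BD M B D b) (h2 : HasTwo b) : HasTwo B := by
  have := finite_irr (G := Nm D)
  have := Fintype.ofFinite b
  obtain ⟨v, v1, v2, v3, v4⟩ := h2
  refine ⟨indFun (Nm D) v, ind_mem h.hM h.hD h.ti h.hb v1 v2, ind_reg (supp_of h.hM h.hD h.hb v1 v2),
    by rw [inner_ind_ind h.hM h.hD h.ti h.hb v1 v1 v2, v3], fun χ _ => ?_⟩
  choose c hc using fun ψ : b => v4 ψ ψ.2
  choose n hn using exists_mult b χ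
  refine ⟨∑ ψ : b, c ψ * n ψ, ?_⟩
  rw [inner_ind v1 (irr_isClassFunction χ.2), inner_eq_sum v1]
  push_cast
  refine Finset.sum_congr rfl fun ψ _ => ?_
  rw [hc, ← classInner_conj_symm, hn, map_natCast]

theorem BD.two_res (h : BD M B D b) (h2 : HasTwo B) : HasTwo b := by
  have := finite_irr (G := G)
  have := Fintype.ofFinite B
  obtain ⟨v, v1, v2, v3, v4⟩ := h2
  have h0 := resB_reg (D := D) h.hM h.hb.1 (charSpan_isClassFunction v1) v2
  refine ⟨resB D b v, resB_mem D b v, h0, ?_, fun ψ hψ => ?_⟩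
  · rw [← inner_ind_ind h.hM h.hD h.ti h.hb (resB_mem D b v) (resB_mem D b v) h0, ind_resB h.hM h.hD h.ti h.hb v1 v2, v3]
  · choose c hc using fun χ : B => v4 χ χ.2
    choose n hn using fun χ : B => exists_mult b χ ⟨ψ, hψ⟩
    refine ⟨∑ χ : B, c χ * n χ, ?_⟩
    rw [span_eq_sum v1, map_sum, classInner_sum_left]
    push_cast
    refine Finset.sum_congr rfl fun χ _ => ?_
    rw [map_smul, classInner_smul_left, hc, hn]

theorem BD.over (h : BD M B D b) (hZ : Z ≤ Subgroup.center G) {lam : G →* ℂˣ}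
    (hl : ∀ χ ∈ B, ∀ z ∈ Z, (χ : G → ℂ) z = lam z * (χ : G → ℂ) 1) :
    ∀ ψ ∈ b, ∀ z ∈ Z.subgroupOf (Nm D),
      (ψ : Nm D → ℂ) z = (lam.comp (Nm D).subtype) z * (ψ : Nm D → ℂ) 1 := by
  intro ψ hψ z hz
  obtain ⟨χ, hχ, h0⟩ := Cfsg.Agent.S0934.result 3 M h.hM (Nm D) b B h.hb ψ hψ
  exact scalar_of_inner ψ.2 (Subgroup.mem_center_iff.2 fun g => Subtype.ext (Subgroup.mem_center_iff.1 (hZ hz) g))
    (fun g => scalar_of χ.2 (hZ hz) (hl χ hχ z hz) g) h0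

variable {lam : G →* ℂˣ} {τ : IrrCharacter (Nm D)}

/-- the function `W` on the normalizer -/
noncomputable abbrev VN (H D : Subgroup G) [Fintype (Nm D)] (τ : IrrCharacter (Nm D)) : Nm D → ℂ :=
  VV (H.subgroupOf (Nm D)) (D.subgroupOf (Nm D)) (τ : Nm D → ℂ)

theorem VN_supp (n : Nm D) (hn : ¬ InT 3 D (n : G)) : VN H D τ n = 0 := VV_of_not fun e => hn (inT_coe.1 e)

theorem VN_reg : pReg 3 (VN H D τ) = 0 :=
  pReg_eq_zero_iff.2 fun _ hn => VV_of_not fun e => e.not_reg hn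

theorem LG.inner_U (h : LG H D Z C pr pd) (hθ : IsSt M θ) (hτ : Tau (pr.comp h.io) (lam.comp (Nm D).subtype) θ τ)
    {Φ : G → ℂ} (hΦ : IsClassFunction G Φ) {d : ℤ}
    (hs : ∀ n : Nm D, InT 3 D (n : G) → (n : G) ∈ H → Φ n = d * (τ : Nm D → ℂ) n) :
    9 * classInner (indFun (Nm D) (VN H D τ)) Φ = d := by
  rw [Characters.Brauer.classInner_indFun _ _ _ _ hΦ]
  exact h.toN.inner_VV hθ hτ fun n h1 h2 => hs n (inT_coe.1 h1) h2

theorem LG.wd (h : LG H D Z C pr pd) (hB : BD M B D b) (hθ : IsSt M θ)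
    (hτ : Tau (pr.comp h.io) (lam.comp (Nm D).subtype) θ τ)
    (hl : ∀ χ ∈ B, ∀ z ∈ Z, (χ : G → ℂ) z = lam z * (χ : G → ℂ) 1) :
    Wd B (Ej H) (indFun (Nm D) (VN H D τ)) := by
  have hMp := isPrime_of_isPModular hB.hM
  have := finite_irr (G := Nm D)
  have := Fintype.ofFinite b
  have hN := h.toN
  have hbD := defect_br hB.hM hB.hD hB.hb
  have hl' := hB.over h.cen hl
  obtain ⟨x, hx, hx1⟩ := hN.exists_ne
  have hxT : InT 3 D (x : G) :=
    inT_coe.1 ⟨x, Blocks.PPart.isPPart_of_isPGroup (hN.order hx), hx, hx1⟩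
  have key : ∀ χ ∈ B, ∃ d : ℤ, (χ : G → ℂ) x / 9 = d ∧
      ∀ n : Nm D, InT 3 D (n : G) → (n : G) ∈ H → (χ : G → ℂ) n = d * (τ : Nm D → ℂ) n := by
    intro χ hχ
    have h1 := resB_eq hB.hM hB.hD hB.ti hB.hb (mem_span_of_mem hχ) hxT
    obtain ⟨d, hd⟩ : ∃ d : ℤ, (χ : G → ℂ) x / 9 = d := by
      choose c hc using fun ψ : b => hN.int hB.hM hB.hb.1 hbD hθ hτ hl' hx hx1 ψ.2
      choose n hn using exists_mult b χ
      refine ⟨∑ ψ : b, n ψ * c ψ, ?_⟩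
      rw [← h1, span_eq_sum (resB_mem D b _), Finset.sum_apply, Finset.sum_div]
      push_cast
      refine Finset.sum_congr rfl fun ψ _ => ?_
      rw [Pi.smul_apply, smul_eq_mul, hn, ← hc, mul_div_assoc]
    refine ⟨d, hd, fun n h2 h3 => ?_⟩
    have h4 := hN.sec_span hB.hM hB.hb.1 hbD hθ hτ hl' hx hx1 (resB_mem D b (χ : G → ℂ)) n (inT_coe.2 h2) h3
    rwa [h1, hd, resB_eq hB.hM hB.hD hB.ti hB.hb (mem_span_of_mem hχ) h2] at h4
  constructor
  · intro χ hχ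
    obtain ⟨d, hd, hs⟩ := key χ hχ
    refine ⟨d, ?_, h.inner_U hθ hτ (irr_isClassFunction χ.2) hs⟩
    have h1 : sg 3 (χ : G → ℂ) ∈ charSpan B :=
      H608.TI.map_sg_le hB.hM (isUnion_of_isPBlock hB.hb.2.1) ⟨_, mem_span_of_mem hχ, rfl⟩
    have h2 := resB_reg (D := D) hB.hM hB.hb.1 (charSpan_isClassFunction h1) (H608.TI.pReg_sg _)
    have h3 := hN.mul_E hB.hM hB.hb.1 hbD (resB_mem D b (sg 3 (χ : G → ℂ))) (τ := τ) (c := d) (fun n h4 h5 => by
      rw [resB_eq hB.hM hB.hD hB.ti hB.hb h1 (inT_coe.1 h4), H608.TI.sg_of_not (inT_coe.1 h4).not_reg,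
        hs n (inT_coe.1 h4) h5])
    rw [sg_of_zero h2] at h3
    rw [← ind_resB hB.hM hB.hD hB.ti hB.hb h1 (H608.TI.pReg_sg _), Characters.Brauer.indFun_mul _ _ _ (Ej_class h.Hn),
      ← Characters.Brauer.indFun_smul, ← h3]
    congr 1
    funext n
    rw [Pi.mul_apply, h.Ej_eq]
  · obtain ⟨ψ, hψ, h0⟩ := (hN.wd hB.hM hB.hb.1 hbD hθ hτ hl').ne
    have h1 : sg 3 (ψ : Nm D → ℂ) ∈ charSpan b :=
      H608.TI.map_sg_le hB.hM (isUnion_of_isPBlock hB.hb.1) ⟨_, mem_span_of_mem hψ, rfl⟩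
    have h2 : (ψ : Nm D → ℂ) x ≠ 0 := by
      intro e
      apply h0
      rw [inner_VV_of_sec (hN.sec_span hB.hM hB.hb.1 hbD hθ hτ hl' hx hx1 (mem_span_of_mem hψ)), e]
      simp
    by_contra e
    push Not at e
    apply h2
    have h3 := span_zero (x := (x : G)) (fun χ hχ => ?_) (ind_mem hB.hM hB.hD hB.ti hB.hb h1 (H608.TI.pReg_sg _))
    · rwa [ind_apply hB.ti (charSpan_isClassFunction h1) (supp_of hB.hM hB.hD hB.hb h1 (H608.TI.pReg_sg _)) hxT,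
        H608.TI.sg_of_not (inT_coe.2 hxT).not_reg] at h3
    · obtain ⟨d, hd, hs⟩ := key χ hχ
      have h4 := h.inner_U hθ hτ (irr_isClassFunction χ.2) hs
      rw [e χ hχ, mul_zero, ← hd] at h4
      linear_combination -9 * h4

theorem LG.mem_iff (h : LG H D Z C pr pd) (hB : BD M B D b) (hW : Wd b (Ej (H.subgroupOf (Nm D))) (VN H D τ)) :
    indFun (Nm D) (VN H D τ) ∈ charSpan B ↔ VN H D τ ∈ charSpan b := by
  refine ⟨fun h1 => ?_, fun h1 => ind_mem hB.hM hB.hD hB.ti hB.hb h1 VN_reg⟩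
  have h2 : IsClassFunction (Nm D) (VN H D τ) := by
    obtain ⟨ψ, -, c, hc⟩ := hW.exists_eq
    rw [hc]
    intro g k
    rw [Pi.smul_apply, Pi.smul_apply, Pi.mul_apply, Pi.mul_apply, H608.TI.sg_class (irr_isClassFunction ψ.2),
      Ej_class (h.Hn.subgroupOf _)]
  have h3 : VN H D τ = resB D b (indFun (Nm D) (VN H D τ)) := by
    funext n
    by_cases hn : InT 3 D (n : G)
    · rw [resB_eq hB.hM hB.hD hB.ti hB.hb h1 hn, ind_apply hB.ti h2 VN_supp hn]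
    · rw [VN_supp n hn, supp_of hB.hM hB.hD hB.hb (resB_mem D b _)
        (resB_reg hB.hM hB.hb.1 (charSpan_isClassFunction h1) (ind_reg VN_supp)) n hn]
  rw [h3]
  exact resB_mem D b _

/-- the values of a character of `H` on the section -/
def SecH (h : LG H D Z C pr pd) (lam : G →* ℂˣ) (θ : IrrCharacter A6) (ξ : H → ℂ) (d : ℤ) : Prop :=
  ∀ x : H, (x : G) ∈ D → x ≠ 1 → ∀ y : C, IsPRegular 3 (y : G) →
    ξ (x * ⟨y, h.CH y.2⟩) = d * (lam y * (θ : A6 → ℂ) (pr y))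

theorem SecH.tau {h : LG H D Z C pr pd} (hτ : Tau (pr.comp h.io) (lam.comp (Nm D).subtype) θ τ) {ξ : H → ℂ} {d : ℤ}
    (hs : SecH h lam θ ξ d) (n : Nm D) (h1 : InT 3 D (n : G)) (h2 : (n : G) ∈ H) :
    ξ ⟨n, h2⟩ = d * (τ : Nm D → ℂ) n := by
  obtain ⟨x, hx, hx1, y, hy, hr, rfl⟩ := h.toN.decomp (inT_coe.2 h1) h2
  rw [h.toN.tau_mul hτ hx hy, hτ.eq ⟨y, hy⟩]
  exact hs ⟨x, h.CH (h.DC hx)⟩ hx (fun e => hx1 (Subtype.ext (congrArg (Subtype.val : H → G) e))) ⟨y, hy⟩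
    ((H608.TI.reg_coe y).2 hr)

theorem LG.one (h : LG H D Z C pr pd) (hθ : IsSt M θ) (hτ : Tau (pr.comp h.io) (lam.comp (Nm D).subtype) θ τ)
    (hH : H.index = 1) {ξ : H → ℂ} (hξ : IsIrrCharacter H ξ) {d : ℤ} (hs : SecH h lam θ ξ d) {f : ℕ} (hf : ξ 1 = f) :
    ∃ χ : IrrCharacter G, 9 * classInner (indFun (Nm D) (VN H D τ)) (χ : G → ℂ) = d ∧ (χ : G → ℂ) 1 = f := by
  have h3 : ∀ g, g ∈ H := fun g => by rw [Subgroup.index_eq_one.1 hH]; trivial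
  let k : G →* H := (MonoidHom.id _).codRestrict _ h3
  have h4 := isIrr_comp k (fun q => ⟨q, rfl⟩) hξ
  refine ⟨⟨_, h4⟩, h.inner_U hθ hτ (irr_isClassFunction h4) fun n h1 h2 => hs.tau hτ n h1 h2, ?_⟩
  change ξ (k 1) = f
  rw [map_one, hf]

theorem LG.lift (h : LG H D Z C pr pd) (hθ : IsSt M θ) (hτ : Tau (pr.comp h.io) (lam.comp (Nm D).subtype) θ τ)
    (hH : H.index = 2) {ξ : H → ℂ} (hξ : IsIrrCharacter H ξ) {d : ℤ} (hs : SecH h lam θ ξ d) {f : ℕ} (hf : ξ 1 = f) :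
    Lift hH (indFun (Nm D) (VN H D τ)) d f := by
  have := h.Hn
  rcases H348.PPD.Dich.dich H hH hξ with ⟨χ, hχ, e⟩ | ⟨χ, hχ, e0, e⟩
  · refine ⟨⟨χ, hχ⟩, Or.inl ⟨tw_ne_of_ext hH ?_, h.inner_U hθ hτ (irr_isClassFunction hχ) fun n h1 h2 => ?_, ?_⟩⟩
    · have e2 : (fun n : H => χ n) = ξ := funext e
      exact e2 ▸ hξ
    · rw [← hs.tau hτ n h1 h2]
      exact e ⟨n, h2⟩
    · rw [← hf]
      exact e 1
  · obtain ⟨t, ht⟩ : ∃ t : Nm D, (t : G) ∉ H := by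
      by_contra e1
      push Not at e1
      have e2 := h.index
      rw [(Subgroup.eq_top_iff' (H.subgroupOf (Nm D))).2 e1, Subgroup.index_top] at e2
      omega
    refine ⟨⟨χ, hχ⟩, Or.inr ⟨tw_eq_of_van hH e0, h.inner_U hθ hτ (irr_isClassFunction hχ) fun n h1 h2 => ?_, ?_⟩⟩
    · have e1 := (e t ht).1 ⟨n, h2⟩
      have e2 := hs.tau hτ (t * n * t⁻¹) (h1.conj t.2) (h.Hn.conj_mem _ h2 t)
      rw [irr_conj τ.2] at e2
      rw [hs.tau hτ n h1 h2] at e1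
      change χ n = _ at e1
      change χ n = _
      rw [e1]
      push_cast
      rw [two_mul, add_mul]
      exact congrArg _ e2
    · have e1 := (e t ht).1 1
      rw [map_one, hf] at e1
      change χ 1 = _
      rw [← OneMemClass.coe_one H, e1]
      push_cast
      ring

omit [Fintype (Nm D)] in
/-- **`k(B) = k(b)`.** -/
theorem LG.card_eq (h : LG H D Z C pr pd) (hB : BD M B D b) (hθ : IsSt M θ)
    (hl : ∀ χ ∈ B, ∀ z ∈ Z, (χ : G → ℂ) z = lam z * (χ : G → ℂ) 1) {ξ₁ ξ₂ : H → ℂ} (h1 : IsIrrCharacter H ξ₁)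
    (h2 : IsIrrCharacter H ξ₂) {d₁ d₂ : ℤ} {f₁ f₂ : ℕ} (hd₁ : d₁ ^ 2 = 1) (hd₂ : d₂ ^ 2 = 4)
    (s1 : SecH h lam θ ξ₁ d₁) (s2 : SecH h lam θ ξ₂ d₂) (e1 : ξ₁ 1 = f₁) (e2 : ξ₂ 1 = f₂) (h4 : Ineq G d₁ d₂ f₁ f₂) :
    Nat.card B = Nat.card b := by
  have := Fintype.ofFinite (Nm D)
  have hN := h.toN
  have hbD := defect_br hB.hM hB.hD hB.hb
  obtain ⟨τ, hτ⟩ := hN.exists_tau hθ (lam.comp (Nm D).subtype)
  have wN := hN.wd hB.hM hB.hb.1 hbD hθ hτ (hB.over h.cen hl)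
  have wG := h.wd hB hθ hτ hl
  have hiff := h.mem_iff hB wN
  have bN := base_of_block hB.hM hB.hb.1 (defect_of_card hB.hM hB.hb.1 hbD hN.card)
  have bG := base_of_block hB.hM hB.hb.2.1 (defect_of_card hB.hM hB.hb.2.1 hB.hD h.card)
  rcases (Nat.dvd_prime Nat.prime_two).1 h.idx with hH | hH
  · have hH' := h.index.trans hH
    rw [Ej_one hH] at wG
    rw [Ej_one hH'] at wN
    obtain ⟨a1, a2⟩ := hN.one hθ hτ hH'
    rw [six_of_one bG wG hd₁ hd₂ (h.one hθ hτ hH h1 s1 e1) (h.one hθ hτ hH h2 s2 e2) h4,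
      six_of_one bN wN (by norm_num) (by norm_num) a1 a2 ineq_N]
  · have hH' := h.index.trans hH
    rw [Ej_two hH] at wG
    rw [Ej_two hH'] at wN
    obtain ⟨a1, a2⟩ := hN.lift hθ hτ hH'
    have c1 := h.lift hθ hτ hH h1 s1 e1
    have c2 := h.lift hθ hτ hH h2 s2 e2
    by_cases hV : VN H D τ ∈ charSpan b
    · rcases six_or_nine bG wG (hiff.2 hV) hd₁ hd₂ c1 c2 h4 with ⟨k1, k2⟩ | ⟨k1, k2⟩ <;>
        rcases six_or_nine bN wN hV (by norm_num) (by norm_num) a1 a2 ineq_N with ⟨k3, k4⟩ | ⟨k3, k4⟩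
      · rw [k1, k3]
      · exact absurd (hB.two_res k2) k4
      · exact absurd (hB.two_ind k4) k2
      · rw [k1, k3]
    · rw [six_of_unstable bG wG (fun e => hV (hiff.1 e)) hd₁ hd₂ c1 c2 h4,
        six_of_unstable bN wN hV (by norm_num) (by norm_num) a1 a2 ineq_N]

end Cfsg.Agent.TID.N9
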