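import Mathlib
import Cfsg.Agent.TID.N9.Defs
import Cfsg.Agent.TID.N9.Glob
import Cfsg.Agent.H756.RIM.Bridge
import Cfsg.Agent.H700.PrinCrit
import Cfsg.Agent.Lib.Cores

/-!
# S4622, defect group of order nine: the shared theorem (helper27)

* `Loc9.exists_LC`: the centralizer in the simple group;
* `Cov`, `Cov.exists_LG`: the local structure in the covering group;
* `exists_lam`: the central character extends;
* `nine : Nine`.
-/

set_option autoImplicit false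
set_option linter.unusedSectionVars false

namespace Cfsg.Agent.TID.N9

open Cfsg Cfsg.Agent.H608.BlockRank Cfsg.Agent.Blocks.Basic Cfsg.Agent.Blocks.Local Cfsg.Agent.TID.Blk
  Cfsg.Agent.Characters.Core
open scoped ComplexConjugate

universe u v

attribute [local instance] factThree

theorem center_A6 : Subgroup.center A6 = ⊥ := by
  rcases simple_A6.eq_bot_or_eq_top_of_normal (Subgroup.center A6) inferInstance with h | h
  · exact h
  · exfalso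
    let _ : CommGroup A6 := { mul_comm := fun a b => Subgroup.mem_center_iff.1 (h ▸ Subgroup.mem_top b) a }
    have := simple_A6
    have h3 : (Nat.card A6).Prime := IsSimpleGroup.prime_card
    rw [card_A6] at h3
    exact absurd h3 (by norm_num)

section Y

variable {Y : Type v} [Group Y] [Finite Y] {D K : Subgroup Y}

theorem Loc9.comm (h : Loc9 D K) {c : Y} (hc : c ∈ D ⊔ K) {x : Y} (hx : x ∈ D) : c * x = x * c := by
  by_cases hx1 : x = 1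
  · rw [hx1, mul_one, one_mul]
  · rw [← h.cent x hx hx1] at hc
    exact Subgroup.mem_centralizer_singleton_iff.1 hc

theorem Loc9.exists_LC (h : Loc9 D K) : ∃ (pr : ↥(D ⊔ K) →* A6) (pd : ↥(D ⊔ K) →* Y), LC D ⊥ (D ⊔ K) pr pd := by
  obtain ⟨e⟩ := h.iso
  have hc : ∀ (m : D) (n : K), Commute (D.subtype m) (K.subtype n) := fun m n =>
    (h.comm (Subgroup.mem_sup_right n.2) m.2).symm
  let φ : D × K →* Y := D.subtype.noncommCoprod K.subtype hc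
  have hφ : ∀ w : D × K, φ w = (w.1 : Y) * w.2 := fun w => rfl
  have hinj : Function.Injective φ := by
    rw [injective_iff_map_eq_one]
    intro w hw
    rw [hφ] at hw
    have h1 : (w.2 : Y) = (w.1 : Y)⁻¹ := eq_inv_of_mul_eq_one_right hw
    have h2 : e w.2 ∈ Subgroup.center A6 := by
      rw [Subgroup.mem_center_iff]
      intro g
      obtain ⟨k, rfl⟩ := e.surjective g
      rw [← map_mul, ← map_mul]
      congr 1
      apply Subtype.ext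
      change (k : Y) * w.2 = w.2 * k
      rw [h1]
      exact h.comm (Subgroup.mem_sup_right k.2) (D.inv_mem w.1.2)
    rw [center_A6, Subgroup.mem_bot, MulEquiv.map_eq_one_iff] at h2
    rw [h2, OneMemClass.coe_one, mul_one] at hw
    exact Prod.ext (Subtype.ext hw) h2
  have hr : φ.range = D ⊔ K := by
    rw [MonoidHom.noncommCoprod_range, Subgroup.range_subtype, Subgroup.range_subtype]
  let ψ : ↥(D ⊔ K) ≃* D × K := ((MonoidHom.ofInjective hinj).trans (MulEquiv.subgroupCongr hr)).symm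
  have hψ : ∀ c : ↥(D ⊔ K), ((ψ c).1 : Y) * (ψ c).2 = c := fun c =>
    congrArg Subtype.val (ψ.symm_apply_apply c)
  refine ⟨e.toMonoidHom.comp ((MonoidHom.snd D K).comp ψ.toMonoidHom),
    D.subtype.comp ((MonoidHom.fst D K).comp ψ.toMonoidHom), h.card, le_sup_left, bot_le,
    fun c hc x hx => h.comm hc hx, bot_le, fun z hz => ?_, ?_, fun c => ?_, fun c => (ψ c).1.2, fun c hc => ?_⟩
  · rw [Subgroup.mem_bot.1 hz, IsPRegular, orderOf_one]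
    norm_num
  · exact e.surjective.comp (Prod.snd_surjective.comp ψ.surjective)
  · change e (ψ c).2 = 1 ↔ ((ψ c).1 : Y)⁻¹ * c ∈ (⊥ : Subgroup Y)
    rw [← hψ c, inv_mul_cancel_left, MulEquiv.map_eq_one_iff, Subgroup.mem_bot, OneMemClass.coe_eq_one]
  · change ((ψ c).1 : Y) = c
    have h1 : ψ c = (⟨c, hc⟩, 1) := hinj (by rw [hφ, hφ, hψ]; simp)
    rw [h1]

end Y

section cov

variable {G : Type u} [Group G] [Fintype G] {Y : Type v} [Group Y] [Finite Y]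

/-- `H` has index at most two in `G` and is a central extension of `Y` -/
structure Cov (H D Z : Subgroup G) (π : H →* Y) (D₀ : Subgroup Y) : Prop where
  Hn : H.Normal
  idx : H.index ∣ 2
  DH : D ≤ H
  ZH : Z ≤ H
  cen : Z ≤ Subgroup.center G
  reg : ∀ z ∈ Z, IsPRegular 3 z
  surj : Function.Surjective π
  ker : ∀ g : H, π g = 1 ↔ (g : G) ∈ Z
  pgrp : IsPGroup 3 D
  img : ∀ y, y ∈ D₀ ↔ ∃ w : H, (w : G) ∈ D ∧ π w = y
  fr : ∀ g : G, ∃ h ∈ H, h * g ∈ Nm D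

variable {H D Z : Subgroup G} {π : H →* Y} {D₀ K : Subgroup Y}

theorem eq_of_mul_mem (hc : Z ≤ Subgroup.center G) (hr : ∀ z ∈ Z, IsPRegular 3 z) {a b : G} {k l : ℕ}
    (ha : a ^ 3 ^ k = 1) (hb : b ^ 3 ^ l = 1) (h : a * b⁻¹ ∈ Z) : a = b := by
  have h1 : Commute (a * b⁻¹) b := (Subgroup.mem_center_iff.1 (hc h) b).symm
  have h2 : (a * b⁻¹) ^ 3 ^ (k + l) = 1 := by
    have h3 := h1.mul_pow (3 ^ (k + l))
    rw [inv_mul_cancel_right, pow_add, pow_mul a, ha, one_pow, mul_comm (3 ^ k), pow_mul b, hb, one_pow, mul_one] at h3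
    rw [pow_add, mul_comm (3 ^ k), ← h3]
  obtain ⟨m, -, hm⟩ := (Nat.dvd_prime_pow Nat.prime_three).1 (orderOf_dvd_of_pow_eq_one h2)
  rcases m with _ | m
  · exact mul_inv_eq_one.1 (orderOf_eq_one_iff.1 hm)
  · exact absurd (hm ▸ Dvd.intro_left _ (pow_succ 3 m).symm) (hr _ h)

theorem pow_of_mem (hD : IsPGroup 3 D) {w : G} (hw : w ∈ D) (g : G) : ∃ k, (g * w * g⁻¹) ^ 3 ^ k = 1 := by
  obtain ⟨k, hk⟩ := hD ⟨w, hw⟩
  have h1 : w ^ 3 ^ k = 1 := congrArg Subtype.val hk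
  exact ⟨k, by rw [conj_pow, h1, mul_one, mul_inv_cancel]⟩

theorem Cov.eq_of (h : Cov H D Z π D₀) {a b : H} (ha : ∃ k, (a : G) ^ 3 ^ k = 1) (hb : (b : G) ∈ D) (e : π a = π b) :
    a = b := by
  obtain ⟨k, hk⟩ := ha
  obtain ⟨l, hl⟩ := pow_of_mem h.pgrp hb 1
  rw [one_mul, inv_one, mul_one] at hl
  exact Subtype.ext (eq_of_mul_mem h.cen h.reg hk hl ((h.ker (a * b⁻¹)).1 (by rw [map_mul, map_inv, e, mul_inv_cancel])))

theorem Cov.ne_one (h : Cov H D Z π D₀) {x : H} (hx : (x : G) ∈ D) (hx1 : x ≠ 1) : π x ≠ 1 := fun e =>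
  hx1 (h.eq_of (a := 1) ⟨0, by simp⟩ hx (by rw [map_one, e])).symm

theorem Cov.mem_Nm (h : Cov H D Z π D₀) {n : H} (hn : π n ∈ Subgroup.normalizer (D₀ : Set Y)) : (n : G) ∈ Nm D := by
  refine Subgroup.mem_normalizer_fintype fun w hw => ?_
  have h1 : π n * π ⟨w, h.DH hw⟩ * (π n)⁻¹ ∈ D₀ :=
    (Subgroup.mem_normalizer_iff.1 hn _).1 ((h.img _).2 ⟨_, hw, rfl⟩)
  obtain ⟨w', h2, h3⟩ := (h.img _).1 h1
  have h4 := h.eq_of (a := n * ⟨w, h.DH hw⟩ * n⁻¹) (pow_of_mem h.pgrp hw n) h2 (by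
    rw [map_mul, map_mul, map_inv, h3])
  rw [← h4] at h2
  exact h2

theorem Cov.exists_LG (h : Cov H D Z π D₀) (hL : Loc9 D₀ K) {pr₀ : ↥(D₀ ⊔ K) →* A6} {pd₀ : ↥(D₀ ⊔ K) →* Y}
    (h0 : LC D₀ ⊥ (D₀ ⊔ K) pr₀ pd₀) : ∃ (C : Subgroup G) (ρ : C →* ↥(D₀ ⊔ K)) (pd : C →* G)
      (hG : LG H D Z C (pr₀.comp ρ) pd), ∀ c : C, (ρ c : Y) = π ⟨c, hG.CH c.2⟩ := by
  let C : Subgroup G := ((D₀ ⊔ K).comap π).map H.subtype
  have CH : C ≤ H := Subgroup.map_subtype_le _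
  have hC : ∀ g : H, (g : G) ∈ C ↔ π g ∈ D₀ ⊔ K := fun g =>
    ⟨fun ⟨g', h1, h2⟩ => (Subtype.ext h2 : g' = g) ▸ h1, fun h1 => ⟨g, h1, rfl⟩⟩
  let ρ : C →* ↥(D₀ ⊔ K) := (π.comp (Subgroup.inclusion CH)).codRestrict _ fun c => (hC ⟨c, CH c.2⟩).1 c.2
  have hρ : ∀ c : C, (ρ c : Y) = π ⟨c, CH c.2⟩ := fun c => rfl
  let δ₀ : D →* D₀ := (π.comp (Subgroup.inclusion h.DH)).codRestrict _ fun w => (h.img _).2 ⟨_, w.2, rfl⟩
  have hδ₀ : Function.Bijective δ₀ := by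
    constructor
    · intro a b e
      obtain ⟨k, hk⟩ := h.pgrp a
      exact Subtype.ext (congrArg (Subtype.val : H → G) (h.eq_of (a := ⟨a, h.DH a.2⟩) (b := ⟨b, h.DH b.2⟩)
        ⟨k, congrArg Subtype.val hk⟩ b.2 (congrArg Subtype.val e)))
    · intro y
      obtain ⟨w, h1, h2⟩ := (h.img _).1 y.2
      exact ⟨⟨w, h1⟩, Subtype.ext h2⟩
  let δ : D ≃* D₀ := MulEquiv.ofBijective δ₀ hδ₀
  let pd₁ : C →* D := δ.symm.toMonoidHom.comp ((pd₀.codRestrict D₀ h0.pd_mem).comp ρ)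
  have hpd : ∀ c : C, π ⟨pd₁ c, h.DH (pd₁ c).2⟩ = pd₀ (ρ c) := fun c =>
    congrArg Subtype.val (δ.apply_symm_apply (pd₀.codRestrict D₀ h0.pd_mem (ρ c)))
  have DC : D ≤ C := fun w hw => (hC ⟨w, h.DH hw⟩).2 (Subgroup.mem_sup_left ((h.img _).2 ⟨_, hw, rfl⟩))
  refine ⟨C, ρ, D.subtype.comp pd₁, ⟨⟨?_, DC, fun z hz => ?_, fun c hc x hx => ?_, h.cen, h.reg, ?_, fun c => ?_,
    fun c => (pd₁ c).2, fun c hc => ?_⟩, h.Hn, CH, h.idx, fun x hx hx1 g hg e => ?_, fun x hx hx1 y hy hy1 => ?_, ?_,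
    h.fr⟩, hρ⟩
  · rw [Nat.card_congr δ.toEquiv, hL.card]
  · refine (hC ⟨z, h.ZH hz⟩).2 ?_
    rw [(h.ker _).2 hz]
    exact Subgroup.one_mem _
  · have h1 := hL.comm ((hC ⟨c, CH hc⟩).1 hc) ((h.img _).2 ⟨⟨x, h.DH hx⟩, hx, rfl⟩)
    have h2 := h.eq_of (a := ⟨c, CH hc⟩ * ⟨x, h.DH hx⟩ * ⟨c, CH hc⟩⁻¹) (b := ⟨x, h.DH hx⟩) (pow_of_mem h.pgrp hx c) hx
      (by rw [map_mul, map_mul, map_inv, h1, mul_inv_cancel_right])
    exact congrArg (Subtype.val : H → G) (mul_inv_eq_iff_eq_mul.1 h2)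
  · refine h0.surj.comp fun y => ?_
    obtain ⟨g, hg⟩ := h.surj y
    exact ⟨⟨g, (hC g).2 (hg ▸ y.2)⟩, Subtype.ext hg⟩
  · have h1 := h.ker (⟨pd₁ c, h.DH (pd₁ c).2⟩⁻¹ * ⟨c, CH c.2⟩)
    rw [map_mul, map_inv, hpd, ← hρ] at h1
    rw [MonoidHom.comp_apply, h0.ker, Subgroup.mem_bot]
    exact h1
  · obtain ⟨k, hk⟩ := h.pgrp (pd₁ c)
    refine congrArg (Subtype.val : H → G) (h.eq_of (a := ⟨pd₁ c, h.DH (pd₁ c).2⟩) (b := ⟨c, CH c.2⟩)
      ⟨k, congrArg Subtype.val hk⟩ hc ?_)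
    rw [hpd, h0.pd_eq _ ((h.img _).2 ⟨_, hc, rfl⟩), hρ]
  · refine (hC ⟨g, hg⟩).2 ?_
    rw [← hL.cent (π ⟨x, h.DH hx⟩) ((h.img _).2 ⟨_, hx, rfl⟩)
      (h.ne_one hx fun e => hx1 (congrArg Subtype.val e)), Subgroup.mem_centralizer_singleton_iff, ← map_mul, ← map_mul]
    exact congrArg π (Subtype.ext e)
  · obtain ⟨n, h1, h2⟩ := hL.trans (π ⟨x, h.DH hx⟩) ((h.img _).2 ⟨_, hx, rfl⟩)
      (h.ne_one hx fun e => hx1 (congrArg Subtype.val e)) (π ⟨y, h.DH hy⟩) ((h.img _).2 ⟨_, hy, rfl⟩)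
      (h.ne_one hy fun e => hy1 (congrArg Subtype.val e))
    obtain ⟨g, rfl⟩ := h.surj n
    refine ⟨g, h.mem_Nm h1, g.2, ?_⟩
    exact congrArg (Subtype.val : H → G) (h.eq_of (a := g * ⟨x, h.DH hx⟩ * g⁻¹) (b := ⟨y, h.DH hy⟩)
      (pow_of_mem h.pgrp hx g) hy (by rw [map_mul, map_mul, map_inv, h2]))
  · obtain ⟨a, ha, c, hc, e⟩ := hL.nonab
    obtain ⟨a, rfl⟩ := h.surj a
    obtain ⟨c, rfl⟩ := h.surj c
    refine ⟨a, h.mem_Nm ha, c, h.mem_Nm hc, a.2, c.2, fun e' => e ?_⟩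
    have h1 := (hC (a * c * a⁻¹ * c⁻¹)).1 e'
    rwa [map_mul, map_mul, map_mul, map_inv, map_inv] at h1

theorem Cov.index_dvd (h : Cov H D Z π D₀) : Z.index ∣ 2 * Nat.card Y := by
  have h1 : Z.subgroupOf H = π.ker := by
    ext g
    rw [Subgroup.mem_subgroupOf, MonoidHom.mem_ker, h.ker]
  rw [← Subgroup.relIndex_mul_index h.ZH, Subgroup.relIndex, h1, Subgroup.index_ker, MonoidHom.range_eq_top.2 h.surj,
    Subgroup.card_top, mul_comm]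
  exact Nat.mul_dvd_mul_right h.idx _

variable {M : Ideal AlgInt} {B : Set (IrrCharacter G)}

/-- **The central character extends.** -/
theorem exists_lam (hM : IsPModular 3 M) (hB : IsPBlock M B) (hc : Z ≤ Subgroup.center G)
    (hr : ∀ z ∈ Z, IsPRegular 3 z) (hl : ∀ χ ∈ B, ∀ z ∈ Z, z ∈ commutator G → (χ : G → ℂ) z = (χ : G → ℂ) 1) :
    ∃ lam : G →* ℂˣ, ∀ χ ∈ B, ∀ z ∈ Z, (χ : G → ℂ) z = lam z * (χ : G → ℂ) 1 := by
  have hMp := isPrime_of_isPModular hM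
  obtain ⟨χ₀, h0⟩ := isPBlock_nonempty hB
  choose cc hcc using fun χ : IrrCharacter G => CharactersDeep.Extraspecial.exists_central_hom χ.2
  have h1 : ∀ (χ : IrrCharacter G) (z : Subgroup.center G), (χ : G → ℂ) z = cc χ z * (χ : G → ℂ) 1 := by
    intro χ z
    have h2 := (hcc χ).1 1 z
    rw [one_mul] at h2
    rw [h2, mul_comm]
  have h2 : ∀ (χ : IrrCharacter G) (z : Subgroup.center G), centralChar (χ : G → ℂ) z = cc χ z := by
    intro χ z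
    have h3 : Subgroup.centralizer ({(z : G)} : Set G) = ⊤ := by
      rw [eq_top_iff]
      intro g _
      exact Subgroup.mem_centralizer_singleton_iff.2 (Subgroup.mem_center_iff.1 z.2 g)
    rw [centralChar_def, h3, Subgroup.index_top, h1, Nat.cast_one, one_mul, mul_div_cancel_right₀ _ (irr_one_ne_zero χ.2)]
  have h3 : ∀ χ ∈ B, ∀ z (hz : z ∈ Z), cc χ ⟨z, hc hz⟩ = cc χ₀ ⟨z, hc hz⟩ := by
    intro χ hχ z hz
    have h4 := isPBlock_sameBlock hB hχ h0 z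
    rw [h2 χ ⟨z, hc hz⟩, h2 χ₀ ⟨z, hc hz⟩] at h4
    have h5 : (⟨z, hc hz⟩ : Subgroup.center G) ^ orderOf z = 1 := Subtype.ext (pow_orderOf_eq_one z)
    have h6 : ∀ ψ, cc ψ ⟨z, hc hz⟩ ^ orderOf z = 1 := fun ψ => by rw [← map_pow, h5, map_one]
    have h7 := H700.PrinCrit.eq_one_of_sub_mem hM (hr z hz)
      (z := ((cc χ ⟨z, hc hz⟩ * (cc χ₀ ⟨z, hc hz⟩)⁻¹ : ℂˣ) : ℂ)) (by
        rw [← Units.val_pow_eq_pow_val, mul_pow, inv_pow, h6, h6]
        simp) (by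
        have h8 : IsIntegral ℤ (((cc χ₀ ⟨z, hc hz⟩)⁻¹ : ℂˣ) : ℂ) := by
          refine IsIntegral.of_pow (orderOf_pos z) ?_
          rw [← Units.val_pow_eq_pow_val, inv_pow, h6, inv_one, Units.val_one]
          exact isIntegral_one
        have h9 := memLocalIdeal_mul_right h4 (memLocalRing_of_isIntegral h8)
        convert h9 using 1
        rw [sub_mul, Units.mul_inv, Units.val_mul])
    exact mul_inv_eq_one.1 (Units.val_eq_one.1 h7)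
  let f : Z →* Abelianization G := Abelianization.of.comp Z.subtype
  let l : Z →* ℂˣ := (cc χ₀).comp (Subgroup.inclusion hc)
  have hk : f.rangeRestrict.ker ≤ l.ker := by
    intro z hz
    rw [MonoidHom.ker_rangeRestrict, MonoidHom.mem_ker] at hz
    have h4 := hl χ₀ h0 z z.2 ((QuotientGroup.eq_one_iff _).1 hz)
    rw [h1 χ₀ ⟨z, hc z.2⟩] at h4
    exact Units.val_eq_one.1 (mul_right_cancel₀ (irr_one_ne_zero χ₀.2) (h4.trans (one_mul _).symm))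
  obtain ⟨μ, hμ⟩ := H756.RIM.exists_ext f.range
    (f.rangeRestrict.liftOfSurjective f.rangeRestrict_surjective ⟨l, hk⟩)
  refine ⟨μ.comp Abelianization.of, fun χ hχ z hz => ?_⟩
  have h4 := hμ (f.rangeRestrict ⟨z, hz⟩)
  rw [MonoidHom.liftOfRightInverse_comp_apply] at h4
  rw [h1 χ ⟨z, hc hz⟩, h3 χ hχ z hz]
  exact congrArg (fun w : ℂˣ => (w : ℂ) * (χ : G → ℂ) 1) h4.symm

theorem Cov.concl (h : Cov H D Z π D₀) (hyp : Hyp 3 M B D) (hL : Loc9 D₀ K) (hχ : Chr9 M D₀)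
    (hl : ∀ χ ∈ B, ∀ z ∈ Z, z ∈ commutator G → (χ : G → ℂ) z = (χ : G → ℂ) 1) : Concl 3 M B D := by
  obtain ⟨pr₀, pd₀, h0⟩ := hL.exists_LC
  obtain ⟨C, ρ, pd, hG, hρ⟩ := h.exists_LG hL h0
  obtain ⟨b, hb⟩ := exists_br hyp.modu hyp.blk hyp.dfc
  obtain ⟨θ, hθ⟩ := exists_st hyp.modu
  obtain ⟨lam, hlam⟩ := exists_lam hyp.modu hyp.blk h.cen h.reg hl
  obtain ⟨ξ₁, ξ₂, x₀, d₁, d₂, f₁, f₂, hx₀, hx₁, p1, p2, hd₁, hd₂, v1, v2, e1, e2, h4⟩ := hχ
  have := Fintype.ofFinite (Nm D)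
  have key : ∀ (ξ : IrrCharacter Y) (d : ℤ) (f : ℕ), ξ ∉ principalBlock M Y → (ξ : Y → ℂ) x₀ = 9 * d →
      (ξ : Y → ℂ) 1 = f → ∃ ξ' : H → ℂ, IsIrrCharacter H ξ' ∧ SecH hG lam θ ξ' d ∧ ξ' 1 = f := by
    intro ξ d f p v e
    refine ⟨_, CharactersDeep.ExtUnique.isIrr_mul_hom (isIrr_comp π h.surj ξ.2) (lam.comp H.subtype),
      fun x hx hx1 y hy => ?_, by rw [Function.comp, map_one, map_one, Units.val_one, mul_one, e]⟩
    have h1 : π x ∈ D₀ := (h.img _).2 ⟨x, hx, rfl⟩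
    have h2 := h.ne_one hx hx1
    have h3 := h0.sec_of_not_principal hyp.modu hθ (x := ⟨π x, h0.DC h1⟩) h1 (hL.cent _ h1 h2).symm p (y := ρ y)
      (fun h5 => hy (by
        rw [hρ] at h5
        refine h5.trans ((orderOf_map_dvd π _).trans ?_)
        rw [← Subgroup.orderOf_coe]))
    obtain ⟨n, -, h5⟩ := hL.trans x₀ hx₀ hx₁ _ h1 h2
    have h6 : (ξ : Y → ℂ) (π x) = 9 * d := by rw [← h5, irr_conj ξ.2, v]
    have h7 : lam x = 1 := hG.toN.lam_D (lam.comp (Nm D).subtype) (x := ⟨x, Subgroup.le_normalizer hx⟩) hx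
    change (ξ : Y → ℂ) (π (x * _)) * lam (x * y) = d * (lam y * (θ : A6 → ℂ) (pr₀ (ρ y)))
    change 9 * (ξ : Y → ℂ) (π x * ρ y) = (ξ : Y → ℂ) (π x) * _ at h3
    rw [map_mul, map_mul, h7, one_mul, ← hρ]
    rw [h6] at h3
    linear_combination (lam y : ℂ) * h3 / 9
  obtain ⟨η₁, a1, a2, a3⟩ := key ξ₁ d₁ f₁ p1 v1 e1
  obtain ⟨η₂, c1, c2, c3⟩ := key ξ₂ d₂ f₂ p2 v2 e2
  refine concl_sq_card hyp.modu hyp.dfc hG.card hb
    (hG.card_eq ⟨hyp.modu, hyp.dfc, hyp.ti, hb⟩ hθ hlam a1 c1 hd₁ hd₂ a2 c2 a3 c3 fun f hf => h4 f ?_)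
  rcases hf with rfl | ⟨w, rfl⟩
  · rw [← charDegree_of_eq e2]
    exact (H608.TI.charDegree_dvd' ξ₂).mul_left 2
  · exact ((H678.Codeg.charDegree_dvd_index_center w).trans (Subgroup.index_dvd_of_le h.cen)).trans h.index_dvd

end cov

/-- the covering data of a row -/
theorem exists_cov {G : Type u} [Group G] [Fintype G] {S : Subgroup (G ⧸ pPrimeCore 3 G)} {D : Subgroup G} {Y : Type v}
    [Group Y] (e : S ≃* Y) (hc : Cen 3 S) (hD : IsPGroup 3 D) (hi : S.index ∣ 2) (hDS : img 3 D ≤ S)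
    (hF : ∀ g : G ⧸ pPrimeCore 3 G, ∃ s ∈ S, s * g ∈ Subgroup.normalizer (img 3 D : Set (G ⧸ pPrimeCore 3 G))) :
    ∃ π : S.comap (QuotientGroup.mk' (pPrimeCore 3 G)) →* Y,
      Cov (S.comap (QuotientGroup.mk' (pPrimeCore 3 G))) D (pPrimeCore 3 G) π (imY e D) := by
  let q := QuotientGroup.mk' (pPrimeCore 3 G)
  have hq : Function.Surjective q := QuotientGroup.mk'_surjective _
  let σ : S.comap q →* S := (q.comp (S.comap q).subtype).codRestrict S fun g => g.2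
  have hreg : ∀ z ∈ pPrimeCore 3 G, IsPRegular 3 z := fun z hz h3 =>
    (Nat.Prime.coprime_iff_not_dvd Nat.prime_three).1 (Lib.Cores.pPrimeCore_coprime (G := G) 3).symm
      (h3.trans (Subgroup.orderOf_dvd_natCard _ hz))
  refine ⟨e.toMonoidHom.comp σ, hc.soc.normal.comap _, by rwa [Subgroup.index_comap_of_surjective _ hq],
    fun w hw => hDS ⟨w, hw, rfl⟩, fun z hz => ?_, hc.cen, hreg, e.surjective.comp fun s => ?_, fun g => ?_, hD,
    fun y => ?_, fun g => ?_⟩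
  · rw [Subgroup.mem_comap, QuotientGroup.mk'_apply, (QuotientGroup.eq_one_iff z).2 hz]
    exact S.one_mem
  · obtain ⟨g, hg⟩ := hq s
    exact ⟨⟨g, by rw [Subgroup.mem_comap, hg]; exact s.2⟩, Subtype.ext hg⟩
  · change e (σ g) = 1 ↔ _
    rw [MulEquiv.map_eq_one_iff, Subtype.ext_iff]
    exact QuotientGroup.eq_one_iff _
  · constructor
    · rintro ⟨s, ⟨w, hw, h1⟩, rfl⟩
      exact ⟨⟨w, hDS ⟨w, hw, rfl⟩⟩, hw, congrArg e (Subtype.ext h1)⟩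
    · rintro ⟨w, hw, rfl⟩
      exact ⟨σ w, ⟨w, hw, rfl⟩, rfl⟩
  · obtain ⟨s, hs, h1⟩ := hF (q g)
    obtain ⟨k, rfl⟩ := hq s
    refine ⟨k, hs, Subgroup.mem_normalizer_fintype fun w hw => ?_⟩
    obtain ⟨w', h2, h3⟩ : q k * q g * q w * (q k * q g)⁻¹ ∈ img 3 D :=
      (Subgroup.mem_normalizer_iff.1 h1 _).1 ⟨w, hw, rfl⟩
    obtain ⟨a, ha⟩ := pow_of_mem hD hw (k * g)
    obtain ⟨c, hc'⟩ := pow_of_mem hD h2 1
    rw [one_mul, inv_one, mul_one] at hc'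
    rw [eq_of_mul_mem hc.cen hreg ha hc' ((QuotientGroup.eq_one_iff _).1 (by
      change q _ = 1
      rw [map_mul, map_inv, map_mul, map_mul, map_inv, map_mul, ← h3]
      exact mul_inv_cancel _))]
    exact h2

/-- **The shared theorem.** -/
theorem nine : Nine.{u, v} := by
  intro G _ _ S M B D Y _ e K hc hyp hi hDS hF hL hχ hl
  have := Fintype.ofFinite G
  have : Finite Y := Finite.of_equiv _ e.toEquiv
  obtain ⟨π, h⟩ := exists_cov e hc (isPGroup_of_isDefectGroup hyp.dfc) hi hDS hF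
  exact h.concl hyp hL hχ hl

end Cfsg.Agent.TID.N9
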